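import Cfsg.Agent.Lib.Lead.DegreeEleven.Code

/-!
# The certificates check
-/

set_option autoImplicit false
set_option maxRecDepth 100000

namespace Cfsg.Agent.DegEleven

theorem all_ok : allOk tables certs = true := by decide +kernel

end Cfsg.Agent.DegEleven
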