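import Mathlib

/-!
Certificates for the involutions of eleven points fixing the first two points.
-/

set_option autoImplicit false

namespace Cfsg.Agent.DegEleven

/-- `cyc w n`: the `n`th power of the word `w` is a three-cycle.
`side k w b w' b'`: the involution and the `k`th standard generator are words in each other. -/
inductive Cert where
  | cyc (w : List ℕ) (n : ℕ)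
  | side (k : ℕ) (w : List ℕ) (b : ℕ) (w' : List ℕ) (b' : ℕ)

def certs0 : List Cert := [
  .cyc [1, 2] 4,
  .cyc [1, 4] 4,
  .cyc [3, 8] 2,
  .cyc [1, 2] 4,
  .cyc [1, 2] 4,
  .cyc [3] 4,
  .cyc [3] 4,
  .cyc [1, 4] 4,
  .cyc [3] 7,
  .cyc [3] 7,
  .cyc [3, 8] 2,
  .cyc [2] 4,
  .cyc [1] 7,
  .cyc [1] 7,
  .cyc [5] 4,
  .cyc [3] 4,
  .cyc [1, 2] 4,
  .cyc [1, 10] 2,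
  .cyc [1, 2] 4,
  .cyc [3] 4,
  .cyc [1] 7,
  .cyc [1, 10] 2,
  .cyc [3] 4,
  .cyc [5] 4,
  .cyc [1, 4] 4,
  .cyc [3] 7,
  .cyc [1, 5] 7,
  .cyc [1] 7,
  .cyc [3] 7,
  .cyc [1, 3] 2,
  .cyc [3, 8] 2,
  .cyc [2] 4,
  .cyc [1, 9] 7,
  .cyc [1, 5] 7,
  .cyc [1] 7,
  .cyc [1, 9] 7,
  .cyc [1] 7,
  .cyc [5] 4,
  .cyc [3, 7] 4,
  .cyc [1, 9] 7,
  .cyc [4] 4,
  .cyc [2] 7,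
  .cyc [1, 9] 7,
  .cyc [2] 7,
  .cyc [2] 4,
  .cyc [1, 2] 4,
  .cyc [3] 4,
  .cyc [1, 10] 2,
  .cyc [1, 2] 4,
  .cyc [1, 10] 2,
  .cyc [1] 7,
  .cyc [1, 2] 4,
  .cyc [3] 4,
  .cyc [1] 7,
  .cyc [4] 7,
  .cyc [1, 10] 2,
  .cyc [1, 10] 2,
  .cyc [1, 4] 4,
  .cyc [3] 4,
  .cyc [5] 4,
  .cyc [3] 7,
  .cyc [1, 4] 4,
  .cyc [3] 7,
  .cyc [1, 5] 7]

def certs1 : List Cert := [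
  .cyc [2] 7,
  .cyc [1] 7,
  .cyc [1] 7,
  .cyc [3] 7,
  .cyc [3] 7,
  .cyc [1, 3] 2,
  .cyc [1, 9] 4,
  .cyc [3, 8] 2,
  .cyc [2] 4,
  .cyc [1, 9] 7,
  .cyc [2] 4,
  .cyc [4] 7,
  .cyc [1, 5] 7,
  .cyc [1, 9] 4,
  .cyc [1] 7,
  .cyc [1, 9] 7,
  .cyc [2, 8] 4,
  .cyc [1] 7,
  .cyc [5] 4,
  .cyc [3, 7] 4,
  .cyc [5] 7,
  .cyc [2] 7,
  .cyc [1, 9] 7,
  .cyc [2] 4,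
  .cyc [4] 4,
  .cyc [2] 7,
  .cyc [5] 7,
  .cyc [1, 9] 7,
  .cyc [2] 7,
  .cyc [2] 4,
  .cyc [1, 3] 4,
  .cyc [4] 4,
  .cyc [1, 10] 2,
  .cyc [2] 7,
  .cyc [1, 10] 2,
  .cyc [5, 6] 2,
  .cyc [1, 5] 7,
  .cyc [4] 4,
  .cyc [2] 7,
  .cyc [1, 5] 7,
  .cyc [4, 7] 2,
  .cyc [1, 2] 4,
  .cyc [1, 2] 4,
  .cyc [3] 4,
  .cyc [3] 4,
  .cyc [1, 10] 2,
  .cyc [1] 7,
  .cyc [1, 2] 4,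
  .cyc [1, 10] 2,
  .cyc [1] 7,
  .cyc [4] 7,
  .cyc [1, 2] 4,
  .cyc [1, 5] 4,
  .cyc [1, 7] 7,
  .cyc [1, 6] 7,
  .cyc [3] 4,
  .cyc [3, 5] 4,
  .cyc [3] 7,
  .cyc [2] 7,
  .cyc [1] 7,
  .cyc [1, 8] 4,
  .cyc [1] 7,
  .cyc [2] 7,
  .cyc [4] 7]

def certs2 : List Cert := [
  .cyc [3, 7] 7,
  .cyc [1, 1, 6] 7,
  .cyc [2] 4,
  .cyc [4] 4,
  .cyc [1] 5,
  .cyc [1, 5] 7,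
  .cyc [1, 4] 7,
  .cyc [3] 4,
  .cyc [1, 10] 2,
  .cyc [2, 4] 4,
  .cyc [1, 10] 2,
  .cyc [1, 4] 4,
  .cyc [2] 7,
  .cyc [3] 4,
  .cyc [5] 4,
  .cyc [3] 7,
  .cyc [1, 5] 4,
  .cyc [1, 4] 4,
  .cyc [1, 7] 7,
  .cyc [5] 4,
  .cyc [2] 4,
  .cyc [3] 7,
  .cyc [3] 7,
  .cyc [2, 8] 4,
  .cyc [3] 7,
  .cyc [1, 5] 7,
  .cyc [3, 7] 7,
  .cyc [2] 7,
  .cyc [2, 5] 5,
  .cyc [2] 7,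
  .cyc [2] 4,
  .cyc [5] 7,
  .cyc [2] 7,
  .cyc [2] 7,
  .cyc [2] 7,
  .cyc [5] 7,
  .side 3 [0, 1, 8] 7 [1, 10, 3, 10] 1,
  .cyc [1] 7,
  .cyc [1] 7,
  .cyc [2] 7,
  .cyc [1] 7,
  .cyc [3] 7,
  .cyc [1, 10] 2,
  .cyc [3] 7,
  .cyc [1, 3] 2,
  .cyc [1, 9] 4,
  .cyc [1, 10] 2,
  .cyc [3, 8] 2,
  .cyc [1, 6] 7,
  .cyc [2] 4,
  .cyc [4, 7] 2,
  .cyc [2] 4,
  .cyc [1] 7,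
  .cyc [2] 7,
  .cyc [3] 4,
  .cyc [1, 9] 7,
  .cyc [1, 1, 6] 7,
  .cyc [3, 4] 2,
  .cyc [4] 7,
  .cyc [2] 4,
  .cyc [5] 7,
  .cyc [2] 4,
  .cyc [1] 7,
  .cyc [1, 10] 2]

def certs3 : List Cert := [
  .cyc [1] 7,
  .cyc [2] 7,
  .cyc [1, 2] 7,
  .cyc [4] 7,
  .cyc [4] 7,
  .cyc [1, 5] 4,
  .cyc [1, 5] 7,
  .cyc [1, 9] 4,
  .cyc [1, 9] 4,
  .cyc [1] 7,
  .cyc [1, 9] 7,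
  .cyc [2, 8] 4,
  .cyc [5] 7,
  .cyc [1] 7,
  .cyc [2] 7,
  .cyc [3] 7,
  .cyc [3] 4,
  .cyc [5] 4,
  .cyc [2] 7,
  .cyc [2, 5] 5,
  .cyc [4] 7,
  .cyc [3, 7] 4,
  .cyc [2] 4,
  .cyc [1, 9] 4,
  .cyc [5] 7,
  .cyc [5] 7,
  .cyc [2] 7,
  .cyc [2] 4,
  .cyc [2] 7,
  .cyc [4] 7,
  .cyc [4] 7,
  .cyc [5] 7,
  .cyc [4] 4,
  .cyc [4] 4,
  .cyc [2] 7,
  .cyc [1, 10] 2,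
  .cyc [1, 9] 7,
  .cyc [2] 4,
  .cyc [5] 7,
  .cyc [4] 4,
  .cyc [2] 7,
  .cyc [5] 7,
  .cyc [4] 4,
  .cyc [1, 9] 7,
  .cyc [1] 5,
  .cyc [3] 4,
  .cyc [4] 7,
  .cyc [2] 7,
  .cyc [1, 5] 7,
  .cyc [4] 7,
  .cyc [4] 4,
  .cyc [2] 4,
  .cyc [1, 4] 7,
  .cyc [5] 7,
  .cyc [4] 2,
  .cyc [1, 3] 4,
  .cyc [1] 7,
  .cyc [2] 7,
  .cyc [3] 2,
  .cyc [1, 6] 4,
  .cyc [1] 7,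
  .cyc [2] 7,
  .cyc [4] 7,
  .cyc [2] 7]

def certs4 : List Cert := [
  .cyc [4] 4,
  .cyc [1, 10] 2,
  .cyc [1, 10] 2,
  .cyc [2] 7,
  .cyc [4] 7,
  .cyc [1, 10] 2,
  .cyc [5, 6] 2,
  .cyc [1, 5] 7,
  .cyc [1, 6] 4,
  .cyc [4] 4,
  .cyc [2] 7,
  .cyc [1] 7,
  .cyc [4] 7,
  .cyc [2] 7,
  .cyc [5] 7,
  .cyc [2] 7,
  .cyc [1] 7,
  .cyc [1, 5] 7,
  .side 2 [3, 5, 2] 4 [3, 2, 2, 1] 3,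
  .cyc [5] 7,
  .cyc [2] 7,
  .cyc [4, 7] 2,
  .cyc [1, 2] 7,
  .cyc [4] 4,
  .cyc [4] 7,
  .cyc [1, 3] 4,
  .cyc [1, 2, 9] 4,
  .cyc [2, 8] 2,
  .cyc [5] 4,
  .cyc [4] 7,
  .cyc [4] 7,
  .cyc [1, 5] 4,
  .cyc [1, 10] 2,
  .cyc [5] 4,
  .cyc [1] 4,
  .cyc [4] 7,
  .cyc [5] 4,
  .cyc [1] 4,
  .cyc [1] 4,
  .cyc [4] 7,
  .cyc [2, 7] 4,
  .cyc [2] 4,
  .cyc [1] 4,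
  .cyc [1, 5] 4,
  .cyc [2] 4,
  .cyc [1] 4,
  .cyc [1, 3] 4,
  .cyc [1] 4,
  .cyc [1] 4,
  .cyc [1] 4,
  .cyc [4] 4,
  .cyc [1] 4,
  .cyc [1, 3] 4,
  .cyc [4] 4,
  .cyc [3, 8] 4,
  .cyc [4, 7] 2,
  .cyc [1] 4,
  .cyc [2] 4,
  .cyc [2] 2,
  .cyc [3] 4,
  .cyc [1, 2] 4,
  .cyc [1, 10] 2,
  .cyc [1, 2] 4,
  .cyc [3] 4]

def certs5 : List Cert := [
  .cyc [1] 7,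
  .cyc [3] 4,
  .cyc [1, 10] 2,
  .cyc [1] 7,
  .cyc [1, 10] 2,
  .cyc [1, 2] 4,
  .cyc [1, 10] 7,
  .cyc [1, 8] 7,
  .cyc [1, 3] 4,
  .cyc [1, 10] 2,
  .cyc [1, 3] 7,
  .cyc [1, 6] 7,
  .cyc [1, 9] 4,
  .cyc [1] 7,
  .cyc [3] 7,
  .cyc [1] 7,
  .cyc [1, 10] 7,
  .cyc [4] 7,
  .cyc [2] 7,
  .cyc [2] 7,
  .cyc [2] 4,
  .cyc [1, 10] 2,
  .cyc [1] 5,
  .cyc [1, 10] 5,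
  .cyc [1, 10] 7,
  .cyc [1, 2] 4,
  .cyc [3] 4,
  .cyc [1, 8] 5,
  .cyc [3] 7,
  .cyc [1, 10] 7,
  .cyc [1, 5] 4,
  .cyc [1, 7] 7,
  .cyc [1, 2] 4,
  .cyc [1, 7] 7,
  .cyc [1, 3] 2,
  .cyc [5] 4,
  .cyc [1, 6] 7,
  .cyc [2] 4,
  .cyc [1] 5,
  .cyc [1] 5,
  .cyc [1, 6] 7,
  .cyc [3] 4,
  .cyc [1, 2] 4,
  .side 3 [10, 5, 6] 1 [5, 7, 7] 2,
  .cyc [3] 7,
  .cyc [1, 3] 7,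
  .cyc [3, 5] 4,
  .cyc [3] 4,
  .cyc [3] 7,
  .cyc [3] 7,
  .side 0 [1, 4] 5 [1, 2] 8,
  .cyc [2] 4,
  .cyc [2] 7,
  .cyc [2] 7,
  .cyc [2] 7,
  .cyc [5] 7,
  .cyc [1, 2] 7,
  .cyc [1] 7,
  .cyc [3] 7,
  .cyc [1, 4] 7,
  .cyc [1, 2] 4,
  .cyc [3] 7,
  .cyc [1, 8] 4,
  .cyc [3] 7]

def certs6 : List Cert := [
  .cyc [2] 4,
  .cyc [1] 7,
  .cyc [3] 4,
  .cyc [2] 7,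
  .cyc [2] 7,
  .cyc [1] 7,
  .cyc [1, 2] 7,
  .cyc [1] 7,
  .cyc [1, 8] 7,
  .cyc [4] 7,
  .cyc [1] 5,
  .cyc [1, 5] 7,
  .cyc [1, 8] 7,
  .cyc [1] 5,
  .cyc [3, 7] 7,
  .cyc [1, 2] 4,
  .cyc [5] 4,
  .cyc [1, 1, 6] 7,
  .cyc [4] 4,
  .cyc [1] 7,
  .cyc [2] 4,
  .cyc [1, 4] 4,
  .cyc [1] 7,
  .cyc [1, 2] 7,
  .cyc [3] 7,
  .cyc [4] 4,
  .cyc [2, 6] 4,
  .cyc [1] 7,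
  .cyc [5] 7,
  .cyc [2] 7,
  .cyc [1] 5,
  .cyc [1, 3] 7,
  .cyc [1, 9] 7,
  .cyc [1, 5] 7,
  .cyc [1] 7,
  .cyc [3] 4,
  .cyc [1, 4] 7,
  .cyc [1, 3] 7,
  .cyc [1, 9] 4,
  .cyc [2, 3] 4,
  .cyc [4] 4,
  .cyc [1, 9] 7,
  .cyc [4] 4,
  .cyc [2] 4,
  .cyc [1] 4,
  .cyc [2] 4,
  .cyc [1, 6] 4,
  .cyc [1] 4,
  .cyc [1] 4,
  .cyc [2] 4,
  .cyc [2] 7,
  .cyc [2] 7,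
  .cyc [1] 4,
  .cyc [3] 4,
  .cyc [1] 4,
  .cyc [1] 4,
  .cyc [1, 4] 7,
  .cyc [1, 10] 2,
  .cyc [3] 4,
  .cyc [2, 4] 4,
  .cyc [1, 10] 2,
  .cyc [2, 4] 4,
  .cyc [2, 9] 2,
  .cyc [1, 10] 2]

def certs7 : List Cert := [
  .cyc [1, 4] 4,
  .cyc [2] 7,
  .cyc [5] 4,
  .cyc [3] 4,
  .cyc [1, 7] 7,
  .cyc [4] 4,
  .cyc [5] 2,
  .cyc [5] 4,
  .cyc [3] 4,
  .cyc [2] 5,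
  .cyc [1, 4] 4,
  .cyc [3] 7,
  .cyc [3] 7,
  .cyc [2] 7,
  .cyc [2, 3] 7,
  .cyc [1, 5] 4,
  .cyc [3] 4,
  .cyc [2, 9] 7,
  .cyc [1, 5] 4,
  .cyc [2] 7,
  .cyc [1] 4,
  .cyc [2] 5,
  .cyc [2, 7] 7,
  .cyc [1, 4] 4,
  .cyc [1, 8] 5,
  .cyc [1, 5] 4,
  .cyc [2] 4,
  .cyc [1, 8] 7,
  .cyc [1, 7] 7,
  .cyc [4] 4,
  .side 2 [8, 4, 7] 3 [7, 9] 2,
  .cyc [5] 4,
  .cyc [2] 5,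
  .cyc [2] 5,
  .cyc [2] 4,
  .cyc [3] 4,
  .cyc [1] 7,
  .cyc [1] 7,
  .cyc [1, 3] 7,
  .cyc [3] 7,
  .cyc [5] 4,
  .cyc [2] 5,
  .cyc [3] 4,
  .cyc [1, 6] 7,
  .cyc [3] 7,
  .cyc [2] 5,
  .cyc [1, 4] 7,
  .cyc [2, 8] 4,
  .cyc [1, 2] 7,
  .cyc [2] 4,
  .cyc [3] 7,
  .cyc [3] 4,
  .cyc [2] 7,
  .cyc [5] 7,
  .cyc [1, 3] 7,
  .cyc [1, 5] 7,
  .cyc [2] 4,
  .cyc [2] 4,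
  .cyc [3] 4,
  .cyc [2] 7,
  .cyc [3, 7] 7,
  .cyc [3] 4,
  .cyc [2] 7,
  .cyc [2] 7]

def certs8 : List Cert := [
  .cyc [3] 7,
  .cyc [2, 3] 4,
  .cyc [2, 5] 5,
  .cyc [1, 6] 4,
  .cyc [1, 1, 2] 5,
  .cyc [1] 4,
  .cyc [2] 7,
  .cyc [2] 7,
  .cyc [2] 7,
  .cyc [2] 7,
  .cyc [4] 7,
  .cyc [2, 6] 4,
  .cyc [2] 4,
  .cyc [1, 6] 4,
  .cyc [1, 9] 7,
  .cyc [5] 7,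
  .cyc [5] 7,
  .cyc [1, 6] 7,
  .cyc [2] 7,
  .cyc [1, 4] 4,
  .cyc [1] 4,
  .cyc [5] 4,
  .cyc [2] 7,
  .cyc [2] 7,
  .cyc [1, 7] 5,
  .cyc [1, 10] 7,
  .cyc [5] 7,
  .cyc [1, 7] 5,
  .cyc [2] 7,
  .cyc [1, 6] 4,
  .cyc [3, 8] 2,
  .cyc [5] 7,
  .cyc [5] 7,
  .cyc [2] 7,
  .side 3 [3, 3, 10] 1 [0, 1, 8, 1] 9,
  .cyc [1, 6] 4,
  .cyc [2, 4] 7,
  .cyc [2] 7,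
  .cyc [1, 8] 7,
  .cyc [1, 5] 7,
  .cyc [1, 10] 7,
  .cyc [5] 4,
  .cyc [1, 10] 7,
  .cyc [1, 7] 7,
  .cyc [3] 4,
  .cyc [2] 4,
  .cyc [2] 4,
  .cyc [1, 10] 5,
  .cyc [2] 4,
  .cyc [3] 7,
  .cyc [1, 3] 7,
  .cyc [1, 10] 5,
  .cyc [1] 7,
  .cyc [1] 7,
  .cyc [1, 2] 7,
  .cyc [1] 7,
  .cyc [1] 7,
  .cyc [2, 9] 2,
  .cyc [1] 7,
  .cyc [2] 7,
  .cyc [2, 7] 4,
  .cyc [1] 7,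
  .cyc [3] 7,
  .cyc [1, 10] 2]

def certs9 : List Cert := [
  .cyc [1] 4,
  .cyc [3] 7,
  .cyc [1, 3] 2,
  .cyc [2] 5,
  .cyc [1, 7] 4,
  .cyc [1, 3] 2,
  .side 1 [0, 6] 5 [6, 1] 1,
  .cyc [1, 2] 7,
  .cyc [1, 8] 4,
  .cyc [1, 9] 4,
  .cyc [1, 2] 4,
  .cyc [3] 5,
  .cyc [2] 7,
  .cyc [1, 10] 2,
  .cyc [1, 6] 4,
  .cyc [2] 7,
  .cyc [1, 2] 4,
  .cyc [2] 4,
  .cyc [2] 4,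
  .cyc [2] 4,
  .cyc [1, 10] 7,
  .cyc [3, 8] 2,
  .cyc [3] 7,
  .cyc [2] 4,
  .cyc [1, 4] 2,
  .cyc [1, 3] 4,
  .cyc [1, 6] 7,
  .cyc [5] 2,
  .cyc [3] 7,
  .cyc [2] 4,
  .cyc [1, 7] 4,
  .cyc [3] 4,
  .cyc [4, 7] 2,
  .cyc [3] 5,
  .cyc [1] 4,
  .cyc [1] 4,
  .cyc [1, 3] 7,
  .cyc [2] 4,
  .cyc [2] 4,
  .cyc [3] 4,
  .cyc [3] 5,
  .cyc [1] 7,
  .cyc [1] 7,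
  .cyc [2] 7,
  .cyc [1, 5] 7,
  .cyc [2] 7,
  .cyc [3] 5,
  .cyc [2] 7,
  .cyc [3] 4,
  .cyc [3, 6] 4,
  .cyc [3] 4,
  .cyc [5] 7,
  .cyc [2] 7,
  .cyc [1, 9] 7,
  .cyc [2] 7,
  .cyc [3] 4,
  .cyc [1, 2] 4,
  .cyc [2] 7,
  .cyc [1, 1, 6] 7,
  .cyc [2, 9] 7,
  .cyc [1] 7,
  .cyc [3, 4] 2,
  .cyc [1] 4,
  .cyc [1, 6] 7]

def certs10 : List Cert := [
  .cyc [4] 7,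
  .cyc [1] 4,
  .cyc [4] 7,
  .cyc [1, 5] 5,
  .cyc [4] 7,
  .cyc [2] 4,
  .cyc [1, 3] 7,
  .cyc [3, 6] 4,
  .cyc [2] 7,
  .cyc [1] 7,
  .cyc [5] 7,
  .cyc [2] 7,
  .cyc [3] 4,
  .cyc [2] 4,
  .cyc [3] 4,
  .cyc [1, 1, 9] 2,
  .cyc [1] 7,
  .cyc [1] 4,
  .cyc [2] 7,
  .cyc [5] 4,
  .cyc [1, 7] 7,
  .cyc [1, 10] 2,
  .cyc [1, 6] 4,
  .cyc [4] 4,
  .cyc [4] 7,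
  .cyc [1, 10] 7,
  .cyc [1] 7,
  .cyc [4] 4,
  .cyc [2] 7,
  .cyc [2] 7,
  .cyc [1] 4,
  .cyc [3] 4,
  .cyc [1, 2] 7,
  .cyc [1, 3] 5,
  .cyc [1] 7,
  .cyc [1] 7,
  .cyc [1, 2] 4,
  .cyc [1, 9] 4,
  .cyc [1, 3] 7,
  .cyc [2] 4,
  .cyc [4] 7,
  .cyc [3] 7,
  .cyc [3] 7,
  .cyc [2] 4,
  .cyc [1] 7,
  .cyc [1, 9] 7,
  .cyc [5] 4,
  .cyc [3] 7,
  .cyc [1] 7,
  .cyc [1, 2] 4,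
  .side 2 [0, 6, 4] 9 [1, 3, 6, 5] 7,
  .cyc [1, 3] 7,
  .cyc [4] 7,
  .cyc [1, 10] 2,
  .cyc [4] 7,
  .cyc [5] 4,
  .cyc [4] 7,
  .cyc [1, 5] 4,
  .cyc [1] 4,
  .cyc [1, 5] 7,
  .cyc [1, 9] 4,
  .cyc [1, 9] 4,
  .cyc [4] 7,
  .cyc [1] 7]

def certs11 : List Cert := [
  .cyc [1] 5,
  .cyc [1] 7,
  .cyc [1] 4,
  .cyc [1, 9] 7,
  .cyc [3] 4,
  .cyc [3] 7,
  .cyc [1, 3] 4,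
  .cyc [2, 8] 4,
  .cyc [4] 4,
  .cyc [1] 4,
  .cyc [2] 7,
  .cyc [5] 7,
  .cyc [5] 7,
  .cyc [3] 4,
  .cyc [1, 6] 7,
  .cyc [5] 7,
  .cyc [1] 7,
  .cyc [5] 7,
  .cyc [2, 9] 7,
  .cyc [1] 7,
  .cyc [1] 5,
  .cyc [1] 7,
  .cyc [1] 4,
  .cyc [1, 9] 4,
  .cyc [2] 7,
  .cyc [1, 4] 4,
  .cyc [1, 2] 4,
  .cyc [3] 7,
  .cyc [1, 8] 4,
  .cyc [3] 4,
  .cyc [3] 4,
  .cyc [1, 2] 4,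
  .cyc [4] 7,
  .cyc [4] 7,
  .cyc [1, 7] 4,
  .cyc [5] 4,
  .cyc [1, 6] 7,
  .cyc [1, 3] 7,
  .cyc [1, 3] 7,
  .cyc [1, 10] 7,
  .cyc [2] 7,
  .cyc [2, 3] 7,
  .cyc [1, 8] 7,
  .cyc [2, 5] 5,
  .cyc [2] 7,
  .cyc [4] 7,
  .cyc [4] 7,
  .cyc [2] 7,
  .cyc [2] 7,
  .cyc [4] 7,
  .cyc [1, 3] 7,
  .cyc [3, 7] 4,
  .cyc [1] 7,
  .cyc [1, 6] 4,
  .cyc [1, 5] 5,
  .cyc [2] 4,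
  .cyc [2] 4,
  .cyc [1, 5] 4,
  .cyc [1, 4] 4,
  .cyc [1, 9] 4,
  .cyc [4] 5,
  .cyc [1, 4] 4,
  .cyc [5] 7,
  .cyc [1, 5] 7]

def certs12 : List Cert := [
  .side 0 [5, 3] 3 [0, 5] 2,
  .cyc [4] 4,
  .cyc [4] 5,
  .cyc [5] 7,
  .cyc [1] 7,
  .cyc [1] 4,
  .cyc [4] 7,
  .cyc [5] 7,
  .cyc [2] 7,
  .cyc [1, 2] 4,
  .cyc [1, 3] 7,
  .cyc [2] 4,
  .cyc [1, 4] 7,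
  .cyc [1] 4,
  .cyc [2] 7,
  .cyc [4] 7,
  .cyc [1, 6] 4,
  .cyc [1, 5] 5,
  .cyc [5] 4,
  .cyc [4] 7,
  .cyc [5] 7,
  .cyc [1] 4,
  .cyc [1] 7,
  .cyc [5] 7,
  .cyc [4] 7,
  .cyc [4] 7,
  .cyc [1, 6] 4,
  .cyc [5] 7,
  .cyc [1, 7] 7,
  .cyc [1, 3] 5,
  .cyc [4] 4,
  .cyc [3] 4,
  .cyc [2, 5] 4,
  .cyc [1, 10] 5,
  .cyc [1, 2] 5,
  .cyc [1, 9] 4,
  .cyc [3] 4,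
  .cyc [3] 7,
  .cyc [1] 7,
  .cyc [3] 4,
  .cyc [2, 5] 7,
  .cyc [1, 2] 7,
  .cyc [1] 7,
  .cyc [1, 10] 5,
  .cyc [1, 2] 7,
  .cyc [4] 5,
  .side 3 [3, 8, 3] 8 [5, 7] 2,
  .cyc [1, 10] 5,
  .cyc [1, 4] 7,
  .cyc [1, 2] 7,
  .cyc [1, 3] 7,
  .cyc [1, 10] 2,
  .cyc [4] 4,
  .cyc [2] 7,
  .cyc [2] 7,
  .cyc [1, 10] 2,
  .cyc [4] 7,
  .cyc [1, 9] 7,
  .cyc [2] 4,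
  .cyc [5] 7,
  .cyc [1, 3] 4,
  .cyc [4] 4,
  .cyc [5] 7,
  .cyc [5] 7]

def certs13 : List Cert := [
  .cyc [4] 7,
  .cyc [2] 7,
  .cyc [1] 7,
  .cyc [1] 4,
  .cyc [1] 7,
  .cyc [5] 7,
  .cyc [1, 2] 7,
  .cyc [4] 5,
  .cyc [1, 2] 4,
  .cyc [4] 4,
  .cyc [5] 4,
  .cyc [1, 4] 7,
  .cyc [2] 7,
  .cyc [1, 3] 4,
  .cyc [1, 3] 7,
  .cyc [1, 7] 7,
  .cyc [5] 4,
  .cyc [1, 9] 7,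
  .cyc [2] 7,
  .cyc [2] 7,
  .cyc [4] 7,
  .cyc [1] 5,
  .cyc [1] 5,
  .cyc [1] 4,
  .cyc [1, 2] 7,
  .cyc [3] 4,
  .cyc [1, 3] 4,
  .cyc [1, 1, 2] 5,
  .cyc [4] 7,
  .cyc [1, 5] 5,
  .cyc [2, 9] 4,
  .cyc [1] 7,
  .cyc [3] 7,
  .cyc [2] 7,
  .cyc [1, 2] 7,
  .cyc [1, 3] 7,
  .cyc [1, 7] 4,
  .cyc [1, 10] 5,
  .cyc [1, 5] 7,
  .cyc [2] 5,
  .cyc [1] 7,
  .cyc [4] 7,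
  .cyc [2] 7,
  .cyc [1] 4,
  .cyc [4] 4,
  .cyc [4] 7,
  .cyc [1] 7,
  .cyc [2] 4,
  .cyc [3] 7,
  .cyc [2] 4,
  .cyc [1, 8] 7,
  .cyc [2] 7,
  .cyc [3] 7,
  .cyc [1, 10] 7,
  .cyc [1, 4] 7,
  .cyc [2, 7] 7,
  .cyc [3] 7,
  .cyc [5] 7,
  .cyc [1, 2] 4,
  .cyc [2] 7,
  .cyc [4] 2,
  .side 3 [5, 9, 9] 4 [2, 3, 8] 9,
  .cyc [3] 7,
  .cyc [1, 2] 7]

def certs14 : List Cert := [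
  .cyc [5] 4,
  .cyc [1, 3] 4,
  .cyc [2, 3] 4,
  .cyc [1, 5] 7,
  .side 2 [0] 0 [0] 0,
  .cyc [1, 9] 4,
  .cyc [1] 7,
  .cyc [1, 6] 7,
  .cyc [4] 4,
  .cyc [2] 7,
  .cyc [2] 7,
  .cyc [4] 7,
  .cyc [3] 2,
  .cyc [2, 5] 4,
  .cyc [1, 7] 4,
  .cyc [1, 3] 7,
  .cyc [1, 2] 4,
  .cyc [1, 6] 4,
  .cyc [2] 7,
  .cyc [1, 7] 7,
  .cyc [5] 5,
  .cyc [2, 4] 7,
  .cyc [1] 7,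
  .cyc [1] 7,
  .cyc [1, 8] 7,
  .cyc [2] 7,
  .cyc [5] 5,
  .cyc [3] 4,
  .cyc [4] 7,
  .cyc [1, 2] 4,
  .cyc [5] 5,
  .cyc [4] 4,
  .cyc [5] 5,
  .cyc [4] 7,
  .cyc [1, 3] 4,
  .cyc [2, 6] 5,
  .cyc [5] 7,
  .cyc [4] 7,
  .cyc [5] 7,
  .cyc [1] 7,
  .cyc [4] 7,
  .cyc [3] 7,
  .cyc [3, 6] 4,
  .cyc [3] 7,
  .cyc [1] 7,
  .cyc [4] 5,
  .cyc [4] 7,
  .cyc [4] 7,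
  .cyc [1, 2] 7,
  .cyc [1, 9] 7,
  .cyc [2] 7,
  .cyc [2] 4,
  .cyc [4] 4,
  .cyc [1, 10] 2,
  .cyc [5] 7,
  .cyc [1, 10] 2,
  .cyc [2] 7,
  .cyc [4] 7,
  .cyc [1, 3] 4,
  .cyc [1, 10] 2,
  .cyc [1, 6] 4,
  .cyc [5] 7,
  .cyc [4] 7,
  .cyc [5, 6] 2]

def certs15 : List Cert := [
  .cyc [2] 4,
  .cyc [1, 5] 5,
  .cyc [2] 4,
  .cyc [1, 5] 7,
  .cyc [1] 4,
  .cyc [4] 4,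
  .cyc [1, 2] 7,
  .cyc [1, 6] 4,
  .cyc [5] 4,
  .cyc [1, 5] 5,
  .cyc [1, 3] 7,
  .cyc [4] 4,
  .cyc [1] 7,
  .cyc [1, 9] 7,
  .cyc [4] 7,
  .cyc [4] 4,
  .cyc [2] 4,
  .cyc [3] 4,
  .cyc [2] 7,
  .cyc [4] 4,
  .cyc [2] 7,
  .cyc [2] 4,
  .cyc [1] 4,
  .cyc [1] 7,
  .cyc [1] 7,
  .cyc [4] 7,
  .cyc [4] 7,
  .side 1 [4, 1] 4 [2, 8] 2,
  .cyc [1] 7,
  .cyc [1, 3] 7,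
  .cyc [3] 7,
  .cyc [2] 7,
  .cyc [1] 4,
  .cyc [2] 7,
  .cyc [1, 3] 7,
  .cyc [2] 4,
  .cyc [5] 7,
  .cyc [2] 4,
  .cyc [2] 7,
  .cyc [2] 7,
  .cyc [5] 7,
  .cyc [2] 7,
  .cyc [1] 7,
  .cyc [1, 6] 4,
  .cyc [4] 4,
  .cyc [1] 7,
  .cyc [1, 2] 4,
  .cyc [1, 5] 7,
  .cyc [2] 7,
  .cyc [4] 7,
  .cyc [3] 7,
  .cyc [1] 4,
  .side 2 [2, 5, 2] 5 [0, 3, 8, 1] 6,
  .cyc [1, 10] 7,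
  .cyc [3] 4,
  .cyc [5] 7,
  .cyc [1, 7] 7,
  .cyc [1, 7] 7,
  .cyc [2] 7,
  .cyc [1, 7] 4,
  .cyc [1, 2] 4,
  .cyc [1, 9] 7,
  .cyc [4] 7,
  .cyc [4, 7] 2]

def certs16 : List Cert := [
  .cyc [1] 4,
  .cyc [4] 5,
  .cyc [5] 4,
  .cyc [1] 4,
  .cyc [1, 2] 7,
  .cyc [2, 9] 7,
  .cyc [1, 4] 7,
  .cyc [4] 4,
  .cyc [5] 4,
  .cyc [5] 4,
  .cyc [4] 7,
  .cyc [1, 2] 4,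
  .cyc [4] 7,
  .cyc [4] 7,
  .cyc [2, 9] 2,
  .cyc [1, 3] 4,
  .cyc [1] 7,
  .cyc [1, 10] 5,
  .cyc [4] 4,
  .cyc [1] 7,
  .cyc [1, 2, 9] 4,
  .cyc [2, 5] 4,
  .cyc [1, 2] 4,
  .cyc [2, 8] 2,
  .cyc [5] 5,
  .cyc [1, 2] 5,
  .cyc [5] 4,
  .cyc [5] 5,
  .cyc [1, 5] 7,
  .cyc [1, 5] 7,
  .cyc [1, 9] 4,
  .cyc [5] 7,
  .cyc [1, 4] 4,
  .cyc [3] 7,
  .cyc [1] 7,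
  .cyc [4] 7,
  .cyc [1, 2] 4,
  .cyc [1] 7,
  .cyc [5] 7,
  .cyc [5] 7,
  .cyc [4] 4,
  .cyc [3] 4,
  .cyc [3] 7,
  .cyc [3] 7,
  .cyc [3] 2,
  .cyc [4] 7,
  .cyc [5] 4,
  .cyc [1, 5] 7,
  .cyc [4] 7,
  .cyc [1, 9] 4,
  .cyc [4] 7,
  .cyc [1, 5] 4,
  .cyc [1, 9] 4,
  .cyc [1, 10] 2,
  .cyc [5] 4,
  .cyc [1] 4,
  .cyc [4] 7,
  .cyc [4] 7,
  .cyc [3] 4,
  .cyc [3] 7,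
  .cyc [2, 5] 7,
  .cyc [5] 4,
  .cyc [1, 10] 5,
  .cyc [1, 9] 7]

def certs17 : List Cert := [
  .cyc [5] 7,
  .cyc [1] 4,
  .cyc [1, 3] 7,
  .cyc [1, 10] 5,
  .cyc [3] 7,
  .cyc [1] 4,
  .cyc [1] 7,
  .side 2 [4, 6] 2 [3, 1, 10] 8,
  .cyc [1] 7,
  .cyc [5] 7,
  .cyc [1, 2] 4,
  .cyc [5] 7,
  .cyc [3] 7,
  .cyc [4] 7,
  .cyc [1, 7] 7,
  .cyc [3] 7,
  .cyc [3] 4,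
  .cyc [1, 10] 7,
  .cyc [2, 7] 4,
  .cyc [1, 3] 7,
  .cyc [2] 4,
  .cyc [2] 4,
  .cyc [3] 4,
  .cyc [1] 7,
  .cyc [1] 4,
  .cyc [1] 7,
  .cyc [4] 7,
  .cyc [1, 3] 4,
  .cyc [4] 7,
  .cyc [1, 5] 4,
  .cyc [2] 4,
  .cyc [2] 4,
  .cyc [1, 2] 7,
  .cyc [5] 4,
  .cyc [2] 4,
  .cyc [2] 4,
  .cyc [3] 7,
  .cyc [1] 4,
  .cyc [3] 7,
  .cyc [3] 7,
  .cyc [1, 3] 4,
  .cyc [4] 5,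
  .cyc [4] 7,
  .cyc [1, 4] 4,
  .cyc [5] 7,
  .cyc [1] 4,
  .cyc [2] 4,
  .cyc [5] 4,
  .cyc [1] 7,
  .cyc [1, 10] 7,
  .cyc [1] 4,
  .cyc [4] 7,
  .cyc [1, 10] 5,
  .cyc [1] 4,
  .cyc [2, 6] 5,
  .cyc [1, 2] 4,
  .cyc [4] 4,
  .cyc [3] 7,
  .cyc [1] 7,
  .cyc [3] 7,
  .cyc [3] 4,
  .cyc [1] 4,
  .cyc [1] 7,
  .cyc [1, 2] 7]

def certs18 : List Cert := [
  .cyc [3, 6] 4,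
  .cyc [1] 7,
  .cyc [1, 3] 4,
  .cyc [1] 7,
  .cyc [1, 2] 7,
  .cyc [4] 4,
  .cyc [5] 7,
  .cyc [1, 10] 5,
  .cyc [3, 8] 4,
  .cyc [4] 5,
  .cyc [4] 4,
  .cyc [1] 7,
  .cyc [3] 7,
  .cyc [4, 7] 2,
  .cyc [1, 3] 7,
  .cyc [1, 2] 7,
  .cyc [4] 7,
  .side 3 [1, 9, 2] 10 [4, 8, 5] 5,
  .cyc [1] 4,
  .cyc [1, 4] 7,
  .cyc [4] 7,
  .cyc [2] 4,
  .cyc [4] 7,
  .cyc [1, 3] 7,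
  .cyc [2] 2,
  .cyc [1, 2] 7,
  .cyc [4] 7,
  .cyc [3] 2,
  .cyc [5] 4,
  .cyc [3, 7] 4,
  .cyc [4] 4,
  .cyc [1, 4] 7,
  .cyc [2] 2,
  .cyc [1, 4] 4,
  .cyc [4] 4,
  .cyc [1, 4] 7,
  .cyc [1, 4] 7,
  .cyc [1, 4] 7,
  .cyc [3] 7,
  .cyc [3] 7,
  .cyc [2] 2,
  .cyc [2] 2,
  .cyc [1] 7,
  .cyc [1] 7,
  .cyc [5] 4,
  .cyc [1] 7,
  .cyc [1] 7,
  .cyc [3] 7,
  .cyc [1] 7,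
  .cyc [2] 7,
  .cyc [1, 10] 2,
  .cyc [1] 7,
  .cyc [2, 9] 2,
  .cyc [2, 7] 4,
  .cyc [1] 4,
  .cyc [1] 7,
  .cyc [1] 5,
  .cyc [1] 7,
  .cyc [1] 4,
  .cyc [2] 7,
  .cyc [1] 7,
  .cyc [1] 4,
  .cyc [1] 7,
  .cyc [2, 7] 4]

def certs19 : List Cert := [
  .cyc [1] 4,
  .cyc [2, 9] 5,
  .cyc [3] 4,
  .cyc [1] 4,
  .cyc [1] 7,
  .cyc [1, 4] 4,
  .cyc [1] 7,
  .cyc [1, 5] 7,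
  .cyc [2, 4] 5,
  .cyc [1, 3] 7,
  .cyc [1, 5] 7,
  .cyc [1] 7,
  .cyc [1] 5,
  .cyc [1] 7,
  .cyc [1] 4,
  .cyc [1] 5,
  .cyc [1] 5,
  .cyc [1] 4,
  .cyc [1] 4,
  .cyc [1] 7,
  .cyc [1] 7,
  .cyc [1] 7,
  .cyc [1] 4,
  .cyc [1] 7,
  .cyc [3] 7,
  .side 0 [0] 0 [0] 0,
  .cyc [4] 7,
  .cyc [3] 7,
  .cyc [1] 4,
  .cyc [2] 5,
  .cyc [1, 2] 4,
  .cyc [1] 7,
  .cyc [1] 7,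
  .cyc [2] 5,
  .cyc [1] 7,
  .cyc [1] 4,
  .cyc [3] 5,
  .cyc [1] 4,
  .cyc [1] 7,
  .cyc [1, 3] 7,
  .cyc [1] 7,
  .cyc [1] 7,
  .cyc [5] 7,
  .cyc [1, 10] 2,
  .cyc [1] 7,
  .cyc [3] 5,
  .cyc [1] 7,
  .cyc [1] 4,
  .cyc [1] 4,
  .cyc [1, 2] 4,
  .cyc [1] 7,
  .cyc [2, 9] 5,
  .cyc [1] 4,
  .cyc [1, 3] 7,
  .cyc [1, 4] 4,
  .cyc [1, 6] 7,
  .cyc [1] 7,
  .cyc [2] 7,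
  .cyc [1, 4] 7,
  .cyc [1] 4,
  .side 1 [0, 7] 9 [1, 6] 3,
  .cyc [1] 4,
  .cyc [2] 7,
  .cyc [3] 7]

def certs20 : List Cert := [
  .cyc [1] 7,
  .cyc [1] 7,
  .cyc [4] 7,
  .cyc [3] 4,
  .cyc [2] 7,
  .cyc [1, 6] 7,
  .cyc [1] 7,
  .cyc [1] 4,
  .cyc [1, 3] 7,
  .cyc [1] 7,
  .cyc [3] 4,
  .cyc [1, 5] 7,
  .cyc [1] 7,
  .cyc [2] 7,
  .cyc [1] 7,
  .cyc [1] 7,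
  .cyc [2, 4] 5,
  .cyc [1] 7,
  .cyc [5] 7,
  .cyc [1, 3] 7,
  .cyc [1, 3] 7,
  .cyc [1, 4] 7,
  .cyc [1, 5] 7,
  .cyc [3] 4,
  .cyc [1] 7,
  .cyc [1] 7,
  .cyc [5] 4,
  .cyc [2] 4,
  .cyc [1] 4,
  .cyc [2] 4,
  .cyc [1, 10] 7,
  .cyc [1] 4,
  .cyc [1] 4,
  .cyc [3] 7,
  .cyc [3] 7,
  .cyc [2] 4,
  .cyc [1, 4] 7,
  .cyc [1, 4] 7,
  .cyc [1, 10] 7,
  .cyc [2] 4,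
  .cyc [1, 9] 7,
  .cyc [1, 9] 7,
  .cyc [1] 2]

def certs : List Cert := certs0 ++ certs1 ++ certs2 ++ certs3 ++ certs4 ++ certs5 ++ certs6 ++ certs7 ++ certs8 ++ certs9 ++ certs10 ++ certs11 ++ certs12 ++ certs13 ++ certs14 ++ certs15 ++ certs16 ++ certs17 ++ certs18 ++ certs19 ++ certs20

/-- The four standard generators. -/
def gens : List (List ℕ) := [
  [0, 1, 10, 4, 3, 9, 7, 6, 8, 5, 2],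
  [0, 3, 2, 1, 9, 5, 8, 10, 6, 4, 7],
  [0, 1, 7, 8, 4, 10, 9, 2, 3, 6, 5],
  [0, 7, 2, 4, 3, 6, 5, 1, 8, 10, 9]]

/-- Steiner systems S(4, 5, 11), as bit masks. -/
def steiner : List (List ℕ) := [
  [61, 103, 122, 151, 171, 206, 217, 244, 283, 302, 333, 342, 369, 412, 421, 434, 451, 488, 527, 566, 595, 604, 617, 666, 684, 689, 709, 738, 789, 803, 824, 842, 868, 902, 905, 976, 1054, 1075, 1099, 1109, 1132, 1165, 1190, 1208, 1234, 1249, 1287, 1321, 1332, 1368, 1378, 1418, 1425, 1476, 1561, 1573, 1578, 1606, 1648, 1667, 1684, 1736, 1804, 1810, 1857, 1952],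
  [47, 94, 115, 155, 188, 213, 230, 233, 285, 310, 331, 357, 376, 391, 426, 433, 460, 466, 565, 570, 583, 601, 620, 653, 662, 675, 714, 752, 782, 787, 809, 852, 866, 920, 932, 961, 1047, 1081, 1101, 1130, 1140, 1166, 1189, 1202, 1219, 1240, 1306, 1315, 1324, 1350, 1361, 1417, 1428, 1504, 1547, 1564, 1574, 1618, 1633, 1681, 1704, 1732, 1797, 1840, 1864, 1922]]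

/-- Biplanes, as bit masks. -/
def biplane : List (List ℕ) := [
  [151, 302, 369, 604, 738, 905, 1099, 1208, 1476, 1573, 1810],
  [233, 285, 466, 570, 583, 932, 1140, 1166, 1315, 1681, 1864]]

end Cfsg.Agent.DegEleven
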