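import Mathlib
import Cfsg.Agent.Lib.Perm.TwoPrimeGen
import Cfsg.Agent.Lib.Lead.DegreeEleven.Data

/-!
# Permutations of eleven points as lists, and the finite check
-/

set_option autoImplicit false
set_option maxRecDepth 100000

namespace Cfsg.Agent.DegEleven

open Equiv
open scoped Fin.NatCast

abbrev S11 := Equiv.Perm (Fin 11)

/-- composition of tables: first `q`, then `p`. -/
def cmp (p q : List ℕ) : List ℕ := q.map fun i => p.getD i 0

def idL : List ℕ := List.range 11

def rot (a : ℕ) : List ℕ := (List.range 11).map fun i => (i + a) % 11

def code (σ : S11) : List ℕ := List.ofFn fun i => (σ i).val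

theorem code_getD (σ : S11) (i : Fin 11) : (code σ).getD i.val 0 = (σ i).val := by
  have h : i.val < (code σ).length := by simp [code]
  rw [List.getD_eq_getElem _ _ h]
  simp only [code, List.getElem_ofFn]

theorem code_mul (a b : S11) : code (a * b) = cmp (code a) (code b) := by
  refine List.ext_getElem (by simp [code, cmp]) fun i h1 h2 => ?_
  have hi : i < 11 := by simpa [code] using h1
  simp only [code, cmp, List.getElem_ofFn, List.getElem_map, Equiv.Perm.mul_apply]
  exact (code_getD a _).symm

theorem code_inj : Function.Injective code := fun a b h =>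
  Equiv.ext fun i => Fin.ext (congrFun (List.ofFn_injective h) i)

theorem code_one : code 1 = idL := by decide +kernel

/-- The standard eleven-cycle. -/
def s : S11 := ⟨fun i => i + 1, fun i => i - 1, fun i => by simp, fun i => by simp⟩

/-- Multiplication by two. -/
def m : S11 := ⟨fun i => 2 * i, fun i => 6 * i, by decide, by decide⟩

theorem s_pow_apply (a : ℕ) (i : Fin 11) : (s ^ a) i = i + (a : Fin 11) := by
  induction a with
  | zero => simp
  | succ k ih =>
      rw [pow_succ', Equiv.Perm.mul_apply, ih]
      show i + (k : Fin 11) + 1 = _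
      rw [Nat.cast_succ, add_assoc]

theorem code_rot (a : ℕ) : code (s ^ a) = rot a := by
  refine List.ext_getElem (by simp [code, rot]) fun i h1 h2 => ?_
  simp only [code, rot, List.getElem_ofFn, List.getElem_map, List.getElem_range, s_pow_apply]
  rw [Fin.val_add, Fin.val_natCast]
  simp [Nat.add_mod]

def word (x : S11) (w : List ℕ) : S11 := w.foldl (fun acc a => acc * (s ^ a * x)) 1

def wordL (x : List ℕ) (w : List ℕ) : List ℕ := w.foldl (fun acc a => cmp acc (cmp (rot a) x)) idL

theorem code_word_aux (x : S11) (w : List ℕ) : ∀ acc : S11,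
    code (w.foldl (fun acc a => acc * (s ^ a * x)) acc) =
      w.foldl (fun acc a => cmp acc (cmp (rot a) (code x))) (code acc) := by
  induction w with
  | nil => intro acc; rfl
  | cons a w ih => intro acc; rw [List.foldl_cons, List.foldl_cons, ih, code_mul, code_mul, code_rot]

theorem code_word (x : S11) (w : List ℕ) : code (word x w) = wordL (code x) w := by
  rw [word, code_word_aux, code_one]; rfl

theorem word_mem {K : Subgroup S11} (hs : s ∈ K) {x : S11} (hx : x ∈ K) (w : List ℕ) : word x w ∈ K := by
  suffices h : ∀ acc ∈ K, w.foldl (fun acc a => acc * (s ^ a * x)) acc ∈ K from h 1 (one_mem K)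
  induction w with
  | nil => exact fun acc h => h
  | cons a w ih => exact fun acc h => ih _ (mul_mem h (mul_mem (pow_mem hs a) hx))

def powL (l : List ℕ) : ℕ → List ℕ
  | 0 => idL
  | n + 1 => cmp (powL l n) l

theorem code_pow (x : S11) (n : ℕ) : code (x ^ n) = powL (code x) n := by
  induction n with
  | zero => exact code_one
  | succ k ih => rw [pow_succ, code_mul, ih]; rfl

def moved (l : List ℕ) : ℕ := ((List.range 11).filter fun i => !Nat.beq (l.getD i 0) i).length

theorem moved_code (σ : S11) : moved (code σ) = σ.support.card := by
  have h : σ.support = (Finset.univ : Finset (Fin 11)).filter fun i => (code σ).getD i.val 0 ≠ i.val := by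
    ext i
    rw [Finset.mem_filter, code_getD, Equiv.Perm.mem_support]
    simp [Fin.val_inj]
  rw [h, moved]
  generalize code σ = l
  rw [Finset.card_def, Finset.filter_val, show (Finset.univ : Finset (Fin 11)).val = ↑(List.finRange 11) from rfl,
    Multiset.filter_coe, Multiset.coe_card, show List.range 11 = (List.finRange 11).map Fin.val by decide,
    List.filter_map, List.length_map]
  congr 1
  refine List.filter_congr fun i _ => ?_
  show (!Nat.beq (l.getD i.val 0) i.val) = decide (l.getD i.val 0 ≠ i.val)
  cases hb : Nat.beq (l.getD i.val 0) i.val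
  · simp only [Bool.not_false, decide_eq_true (Nat.ne_of_beq_eq_false hb)]
  · simp only [Bool.not_true, decide_eq_false (not_not.2 (Nat.eq_of_beq_eq_true hb))]

theorem isThreeCycle_of_moved {σ : S11} (h : moved (code σ) = 3) : σ.IsThreeCycle :=
  card_support_eq_three_iff.1 (moved_code σ ▸ h)

/-- all tables of involutions moving only points of `l`, on top of `acc`. -/
def gen : ℕ → List ℕ → List ℕ → List (List ℕ)
  | 0, _, acc => [acc]
  | _ + 1, [], acc => [acc]
  | n + 1, a :: r, acc =>
      gen n r acc ++ r.flatMap fun b => gen n (r.filter fun z => !Nat.beq z b) ((acc.set a b).set b a)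

theorem mem_gen (f : ℕ → ℕ) : ∀ (n : ℕ) (l acc : List ℕ), l.Nodup → l.length ≤ n → acc.length = 11 →
    (∀ i ∈ l, i < 11) → (∀ i ∈ l, f i ∈ l ∧ f (f i) = i) → (∀ i ∈ l, acc.getD i 0 = i) →
    (∀ i, i < 11 → i ∉ l → acc.getD i 0 = f i) → (List.range 11).map f ∈ gen n l acc := by
  intro n
  induction n with
  | zero =>
      intro l acc _ hlen hacc _ _ _ hout
      rw [List.length_eq_zero_iff.1 (Nat.le_zero.1 hlen)] at hout
      refine List.mem_singleton.2 (List.ext_getElem (by simp [hacc]) fun i h1 h2 => ?_)
      have := hout i (by simpa using h1) List.not_mem_nil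
      simp [List.getD_eq_getElem?_getD, List.getElem?_eq_getElem h2] at this
      simp [this]
  | succ n ih =>
      intro l acc hnd hlen hacc hlt hf hin hout
      cases l with
      | nil =>
          refine List.mem_singleton.2 (List.ext_getElem (by simp [hacc]) fun i h1 h2 => ?_)
          have := hout i (by simpa using h1) List.not_mem_nil
          simp [List.getD_eq_getElem?_getD, List.getElem?_eq_getElem h2] at this
          simp [this]
      | cons a r =>
          obtain ⟨har, hr⟩ := List.nodup_cons.1 hnd
          have ha := hf a List.mem_cons_self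
          by_cases hfa : f a = a
          · refine List.mem_append_left _ (ih r acc hr (by simpa using hlen) hacc
              (fun i h => hlt i (List.mem_cons_of_mem _ h)) (fun i h => ⟨?_, (hf i (List.mem_cons_of_mem _ h)).2⟩)
              (fun i h => hin i (List.mem_cons_of_mem _ h)) (fun i h11 hi => ?_))
            · rcases List.mem_cons.1 (hf i (List.mem_cons_of_mem _ h)).1 with e | e
              · have := (hf i (List.mem_cons_of_mem _ h)).2
                rw [e, hfa] at this
                exact absurd (this ▸ h) har
              · exact e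
            · by_cases hia : i = a
              · subst hia; rw [hin i List.mem_cons_self, hfa]
              · exact hout i h11 (by simp [hia, hi])
          · have hb : f a ∈ r := (List.mem_cons.1 ha.1).resolve_left hfa
            have hmem : ∀ z, z ∈ r.filter (fun z => !Nat.beq z (f a)) ↔ z ∈ r ∧ z ≠ f a := fun z => by
              rw [List.mem_filter]
              cases hz : Nat.beq z (f a)
              · simp [Nat.ne_of_beq_eq_false hz]
              · simp [Nat.eq_of_beq_eq_true hz]
            have hget : ∀ i, i ≠ a → i ≠ f a → ((acc.set a (f a)).set (f a) a).getD i 0 = acc.getD i 0 :=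
              fun i h1 h2 => by simp [List.getD_eq_getElem?_getD, List.getElem?_set, Ne.symm h1, Ne.symm h2]
            refine List.mem_append_right _ (List.mem_flatMap.2 ⟨f a, hb, ih _ _ (hr.filter _)
              ((List.length_filter_le _ _).trans (by simpa using hlen)) (by simp [hacc])
              (fun i h => hlt i (List.mem_cons_of_mem _ ((hmem i).1 h).1)) (fun i h => ?_) (fun i h => ?_)
              (fun i h11 hi => ?_)⟩)
            · obtain ⟨h1, h2⟩ := (hmem i).1 h
              obtain ⟨h3, h4⟩ := hf i (List.mem_cons_of_mem _ h1)
              refine ⟨(hmem _).2 ⟨(List.mem_cons.1 h3).resolve_left fun e => h2 ?_, fun e => har ?_⟩, h4⟩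
              · rw [← e, h4]
              · have e2 := congrArg f e
                rw [h4, ha.2] at e2
                exact e2 ▸ h1
            · obtain ⟨h1, h2⟩ := (hmem i).1 h
              rw [hget i (fun e => har (e ▸ h1)) h2, hin i (List.mem_cons_of_mem _ h1)]
            · by_cases hia : i = a
              · subst hia
                simp [List.getD_eq_getElem?_getD, List.getElem?_set, hfa, hacc, h11]
              by_cases hib : i = f a
              · subst hib
                rw [ha.2]
                simp [List.getD_eq_getElem?_getD, List.getElem?_set, hacc, h11]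
              rw [hget i hia hib]
              refine hout i h11 fun h => ?_
              rcases List.mem_cons.1 h with e | e
              · exact hia e
              · exact hi ((hmem i).2 ⟨e, hib⟩)

/-- the tables to certify. -/
def tables : List (List ℕ) :=
  (gen 9 [2, 3, 4, 5, 6, 7, 8, 9, 10] idL).filter fun l =>
    Nat.beq (moved l % 4) 0 && !Nat.beq (moved l) 0

def certOk (x : List ℕ) : Cert → Bool
  | .cyc w n => Nat.beq (moved (powL (wordL x w) n)) 3
  | .side k w b w' b' => decide (k < 4) &&
      decide (cmp (wordL (gens.getD k []) w) (rot b) = x) &&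
      decide (cmp (wordL x w') (rot b') = gens.getD k [])

def allOk : List (List ℕ) → List Cert → Bool
  | [], [] => true
  | x :: xs, c :: cs => certOk x c && allOk xs cs
  | _, _ => false

theorem exists_cert : ∀ (xs : List (List ℕ)) (cs : List Cert), allOk xs cs = true →
    ∀ x ∈ xs, ∃ c, certOk x c = true
  | [], _, _, x, hx => absurd hx List.not_mem_nil
  | y :: xs, [], h, _, _ => by simp [allOk] at h
  | y :: xs, c :: cs, h, x, hx => by
      simp only [allOk, Bool.and_eq_true] at h
      rcases List.mem_cons.1 hx with rfl | hx
      · exact ⟨c, h.1⟩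
      · exact exists_cert xs cs h.2 x hx

theorem mem_tables {x : S11} (h2 : x * x = 1) (h0 : x 0 = 0) (h1 : x 1 = 1) (hne : x ≠ 1)
    (hsign : Equiv.Perm.sign x = 1) : code x ∈ tables := by
  let f : ℕ → ℕ := fun i => (code x).getD i 0
  have hfv : ∀ i : Fin 11, f i.val = (x i).val := fun i => code_getD x i
  have hinv : ∀ i, x (x i) = i := fun i => by
    rw [← Equiv.Perm.mul_apply, h2]; rfl
  refine List.mem_filter.2 ⟨?_, ?_⟩
  · have hc : code x = (List.range 11).map f := by
      refine List.ext_getElem (by simp [code]) fun i a b => ?_
      simp [f, List.getD_eq_getElem?_getD, List.getElem?_eq_getElem a]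
    rw [hc]
    refine mem_gen f 9 _ idL (by decide) (by decide) (by decide) (by decide) (fun i hi => ?_)
      (by decide) (fun i h11 hi => ?_)
    · have hb : 2 ≤ i ∧ i < 11 := by simp at hi; omega
      have e : f i = (x ⟨i, hb.2⟩).val := hfv ⟨i, hb.2⟩
      refine ⟨?_, ?_⟩
      · have n0 : x ⟨i, hb.2⟩ ≠ 0 := fun h => by
          have e2 := x.injective (h.trans h0.symm)
          have e3 := congrArg Fin.val e2
          simp at e3; omega
        have n1 : x ⟨i, hb.2⟩ ≠ 1 := fun h => by
          have e2 := x.injective (h.trans h1.symm)
          have e3 := congrArg Fin.val e2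
          simp at e3; omega
        have := (x ⟨i, hb.2⟩).isLt
        have : (x ⟨i, hb.2⟩).val ≠ 0 := fun h => n0 (Fin.ext h)
        have : (x ⟨i, hb.2⟩).val ≠ 1 := fun h => n1 (Fin.ext h)
        rw [e]; simp; omega
      · rw [e, hfv, hinv]
    · have hb : i = 0 ∨ i = 1 := by simp at hi; omega
      rcases hb with rfl | rfl
      · rw [show f 0 = (x 0).val from hfv 0, h0]; decide
      · rw [show f 1 = (x 1).val from hfv 1, h1]; decide
  · obtain ⟨n, hn, hsn⟩ := Cfsg.Agent.Perm.TwoPrime.involution_sign (v := x) (by rw [pow_two, h2])
    have hpos : moved (code x) ≠ 0 := by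
      rw [moved_code]; exact fun h => hne (Equiv.Perm.card_support_eq_zero.1 h)
    rw [hsign] at hsn
    have heven : Even n := neg_one_pow_eq_one_iff_even (by decide : (-1 : ℤˣ) ≠ 1) |>.1 hsn.symm
    obtain ⟨k, hk⟩ := heven
    have h4 : moved (code x) % 4 = 0 := by rw [moved_code, hn]; omega
    have hz : Nat.beq (moved (code x)) 0 = false := by
      cases hb : Nat.beq (moved (code x)) 0
      · rfl
      · exact absurd (Nat.eq_of_beq_eq_true hb) hpos
    rw [h4, hz]; rfl

end Cfsg.Agent.DegEleven
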