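import Mathlib
import Cfsg.Agent.Lib.Lead.DegreeEleven.Check

/-!
# Involutions together with the eleven-cycle
-/

set_option autoImplicit false
set_option maxRecDepth 100000

namespace Cfsg.Agent.DegEleven

open Equiv
open scoped Fin.NatCast

/-- the involution given by a table. -/
def ofList (l : List ℕ) (h : ∀ i : Fin 11, ((l.getD ((l.getD i.val 0 : ℕ) : Fin 11).val 0 : ℕ) : Fin 11) = i) : S11 :=
  ⟨fun i => ((l.getD i.val 0 : ℕ) : Fin 11), fun i => ((l.getD i.val 0 : ℕ) : Fin 11), h, h⟩

def idx : Bool → Bool → ℕ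
  | false, false => 0
  | false, true => 1
  | true, false => 2
  | true, true => 3

/-- the standard generators: small or big group, and the side. -/
def g : Bool → Bool → S11
  | false, false => ofList (gens.getD 0 []) (by decide +kernel)
  | false, true => ofList (gens.getD 1 []) (by decide +kernel)
  | true, false => ofList (gens.getD 2 []) (by decide +kernel)
  | true, true => ofList (gens.getD 3 []) (by decide +kernel)

theorem code_g : ∀ b i, code (g b i) = gens.getD (idx b i) [] := by decide +kernel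

attribute [local irreducible] s g word ofList

theorem s_cl (x : S11) : s ∈ Subgroup.closure ({s, x} : Set S11) :=
  Subgroup.subset_closure (Set.mem_insert s {x})

theorem x_cl (x : S11) : x ∈ Subgroup.closure ({s, x} : Set S11) :=
  Subgroup.subset_closure (Set.mem_insert_of_mem s (Set.mem_singleton x))

/-- The four groups. -/
def K (b i : Bool) : Subgroup S11 := Subgroup.closure {s, g b i}

theorem s_mem (b i : Bool) : s ∈ K b i := s_cl _

theorem g_mem (b i : Bool) : g b i ∈ K b i := x_cl _

theorem closure_le_iff {x : S11} {H : Subgroup S11} : Subgroup.closure {s, x} ≤ H ↔ s ∈ H ∧ x ∈ H := by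
  rw [Subgroup.closure_le]
  exact ⟨fun h => ⟨h (Set.mem_insert s {x}), h (Set.mem_insert_of_mem s (Set.mem_singleton x))⟩,
    fun h y hy => by rcases hy with rfl | rfl <;> [exact h.1; exact h.2]⟩

/-- a word followed by a power of the cycle. -/
theorem eq_of_word {y x : S11} {w : List ℕ} {b : ℕ} (h : cmp (wordL (code x) w) (rot b) = code y) :
    y = word x w * s ^ b := by
  refine code_inj ?_
  rw [← h, code_mul, code_word, code_rot]

theorem word_mem_closure (x : S11) (w : List ℕ) (b : ℕ) :
    word x w * s ^ b ∈ Subgroup.closure ({s, x} : Set S11) :=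
  mul_mem (word_mem (s_cl _) (x_cl _) w)
    (pow_mem (s_cl _) b)

/-- An even involution fixing the first two points. -/
theorem normalised {x : S11} (h2 : x * x = 1) (h0 : x 0 = 0) (h1 : x 1 = 1) (hne : x ≠ 1)
    (hsign : Equiv.Perm.sign x = 1) :
    (∃ t ∈ Subgroup.closure ({s, x} : Set S11), t.IsThreeCycle) ∨
      ∃ b i, Subgroup.closure ({s, x} : Set S11) = K b i := by
  obtain ⟨c, hc⟩ := exists_cert tables certs all_ok _ (mem_tables h2 h0 h1 hne hsign)
  cases c with
  | cyc w n =>
      refine Or.inl ⟨(word x w) ^ n, pow_mem (word_mem (s_cl _) (x_cl _) w) n, isThreeCycle_of_moved ?_⟩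
      rw [code_pow, code_word]
      exact Nat.eq_of_beq_eq_true hc
  | side k w b w' b' =>
      simp only [certOk, Bool.and_eq_true, decide_eq_true_eq] at hc
      obtain ⟨⟨hk, e1⟩, e2⟩ := hc
      obtain ⟨bb, ii, rfl⟩ : ∃ bb ii, idx bb ii = k := by
        interval_cases k
        exacts [⟨false, false, rfl⟩, ⟨false, true, rfl⟩, ⟨true, false, rfl⟩, ⟨true, true, rfl⟩]
      rw [← code_g] at e1 e2
      refine Or.inr ⟨bb, ii, le_antisymm (closure_le_iff.2 ⟨s_mem _ _, ?_⟩) (closure_le_iff.2
        ⟨s_cl _, ?_⟩)⟩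
      · rw [eq_of_word e1]; exact word_mem_closure _ _ _
      · rw [eq_of_word e2]; exact word_mem_closure _ _ _

theorem m_pow_apply (k : ℕ) (i : Fin 11) : (m ^ k) i = 2 ^ k * i := by
  induction k with
  | zero => simp
  | succ k ih =>
      rw [pow_succ', Equiv.Perm.mul_apply, ih, pow_succ', mul_assoc]
      rfl

theorem exists_move : ∀ a b : Fin 11, a ≠ b →
    ∃ j : Fin 11, ∃ k : Fin 10, a + j = 0 ∧ (2 : Fin 11) ^ (k : ℕ) * (b + j) = 1 := by decide +kernel

theorem four_mem : ∀ b i, m * m ∈ K b i := by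
  have h0 : m * m = word (g false false) [0, 5, 9] * s ^ 5 := eq_of_word (by decide +kernel)
  have h1 : m * (m * m) * m⁻¹ = m * m := by group
  have hL : g false false ∈ K true false := by
    rw [eq_of_word (y := g false false) (x := g true false) (w := [2, 5, 6]) (b := 9) (by decide +kernel)]
    exact word_mem_closure _ _ _
  have hc : ∀ b, (K b false).map (MulAut.conj m).toMonoidHom ≤ K b true := by
    intro b
    rw [K, MonoidHom.map_closure, Subgroup.closure_le]
    rintro _ ⟨y, rfl | rfl, rfl⟩
    · rw [show (MulAut.conj m).toMonoidHom s = s ^ 2 from show m * s * m⁻¹ = s ^ 2 by decide +kernel]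
      exact pow_mem (s_mem _ _) 2
    · rw [show (MulAut.conj m).toMonoidHom (g b false) = g b true from by
        cases b <;> decide +kernel]
      exact g_mem _ _
  have hf : ∀ b, m * m ∈ K b false := by
    intro b
    have h := h0 ▸ word_mem_closure (g false false) [0, 5, 9] 5
    cases b
    · exact h
    · exact closure_le_iff.2 ⟨s_mem true false, hL⟩ h
  intro b i
  cases i
  · exact hf b
  · have h := hc b (Subgroup.mem_map_of_mem _ (hf b))
    rwa [show (MulAut.conj m).toMonoidHom (m * m) = m * m from h1] at h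

theorem map_s (b i : Bool) : (K b i).map (MulAut.conj s).toMonoidHom = K b i := by
  ext y
  rw [Subgroup.mem_map_equiv, MulAut.conj_symm_apply]
  exact ⟨fun h => by
      have := mul_mem (mul_mem (s_mem b i) h) (inv_mem (s_mem b i))
      simpa [mul_assoc] using this,
    fun h => mul_mem (mul_mem (inv_mem (s_mem b i)) h) (s_mem b i)⟩

theorem map_m (b i : Bool) : (K b i).map (MulAut.conj m).toMonoidHom = K b (!i) := by
  have hs2 : ∀ y : S11, Subgroup.closure ({s ^ 2, y} : Set S11) = Subgroup.closure {s, y} := fun y =>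
    le_antisymm (by
      rw [Subgroup.closure_le]
      rintro z (rfl | rfl)
      · exact pow_mem (s_cl _) 2
      · exact x_cl _)
      (closure_le_iff.2 ⟨by
        have h6 : (s ^ 2) ^ 6 = s := by decide +kernel
        have h := pow_mem (Subgroup.subset_closure (k := ({s ^ 2, y} : Set S11)) (Set.mem_insert (s ^ 2) {y})) 6
        rwa [h6] at h,
        Subgroup.subset_closure (Set.mem_insert_of_mem (s ^ 2) (Set.mem_singleton y))⟩)
  have hf : ∀ b, (K b false).map (MulAut.conj m).toMonoidHom = K b true := fun b => by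
    rw [K, MonoidHom.map_closure, Set.image_insert_eq, Set.image_singleton,
      show (MulAut.conj m).toMonoidHom s = s ^ 2 from show m * s * m⁻¹ = s ^ 2 by decide +kernel,
      show (MulAut.conj m).toMonoidHom (g b false) = g b true from by cases b <;> decide +kernel, hs2]
    rfl
  cases i
  · exact hf b
  · show (K b true).map (MulAut.conj m).toMonoidHom = K b false
    rw [← hf b, Subgroup.map_map]
    ext y
    constructor
    · rintro ⟨z, hz, rfl⟩
      have := mul_mem (mul_mem (four_mem b false) hz) (inv_mem (four_mem b false))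
      simpa [mul_assoc] using this
    · intro hy
      refine ⟨(m * m)⁻¹ * y * (m * m), mul_mem (mul_mem (inv_mem (four_mem b false)) hy) (four_mem b false), ?_⟩
      simp [mul_assoc]

/-- The two small groups together contain a three-cycle. -/
theorem mix {H : Subgroup S11} (h0 : K false false ≤ H) (h1 : K false true ≤ H) :
    ∃ t ∈ H, t.IsThreeCycle :=
  ⟨(s * g false false * g false true) ^ 7,
    pow_mem (mul_mem (mul_mem (h0 (s_mem _ _)) (h0 (g_mem _ _))) (h1 (g_mem _ _))) 7,
    isThreeCycle_of_moved (by decide +kernel)⟩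

theorem small_le (b i : Bool) : K false i ≤ K b i := by
  cases b
  · exact le_rfl
  have hf : K false false ≤ K true false := closure_le_iff.2 ⟨s_mem _ _, by
    rw [eq_of_word (y := g false false) (x := g true false) (w := [2, 5, 6]) (b := 9) (by decide +kernel)]
    exact word_mem_closure _ _ _⟩
  cases i
  · exact hf
  · rw [show true = !false from rfl, ← map_m, ← map_m]
    exact Subgroup.map_mono hf

/-- conjugation by affine maps permutes the four groups. -/
theorem map_affine (b i : Bool) (k j : ℕ) :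
    ∃ i', (K b i).map (MulAut.conj (s ^ j * m ^ k)).toMonoidHom = K b i' := by
  have hcomp : ∀ (u v : S11) (H : Subgroup S11), H.map (MulAut.conj (u * v)).toMonoidHom =
      (H.map (MulAut.conj v).toMonoidHom).map (MulAut.conj u).toMonoidHom := fun u v H => by
    rw [Subgroup.map_map]
    refine congrArg (fun f : S11 →* S11 => H.map f) (MonoidHom.ext fun z => ?_)
    simp [mul_assoc]
  obtain ⟨i', hi'⟩ : ∃ i', (K b i).map (MulAut.conj (m ^ k)).toMonoidHom = K b i' := by
    induction k with
    | zero => exact ⟨i, by ext y; simp⟩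
    | succ k ih =>
        obtain ⟨i', hi'⟩ := ih
        exact ⟨!i', by rw [pow_succ', hcomp, hi', map_m]⟩
  refine ⟨i', ?_⟩
  rw [hcomp, hi']
  induction j with
  | zero => ext y; simp
  | succ j ih => rw [pow_succ', hcomp, ih, map_s]

/-- An even involution generates with the cycle one of the four groups, or a three-cycle. -/
theorem classify {x : S11} (h2 : x * x = 1) (hne : x ≠ 1) (hsign : Equiv.Perm.sign x = 1) :
    (∃ t ∈ Subgroup.closure ({s, x} : Set S11), t.IsThreeCycle) ∨
      ∃ b i, Subgroup.closure ({s, x} : Set S11) = K b i := by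
  classical
  obtain ⟨a, b, hab, ha, hb⟩ : ∃ a b, a ≠ b ∧ x a = a ∧ x b = b := by
    obtain ⟨n, hn, hsn⟩ := Cfsg.Agent.Perm.TwoPrime.involution_sign (v := x) (by rw [pow_two, h2])
    rw [hsign] at hsn
    obtain ⟨k, hk⟩ := neg_one_pow_eq_one_iff_even (by decide : (-1 : ℤˣ) ≠ 1) |>.1 hsn.symm
    have hle : x.support.card ≤ 11 := (Finset.card_le_univ _).trans (by simp)
    have h2le : 1 < x.supportᶜ.card := by
      rw [Finset.card_compl, Fintype.card_fin]; omega
    obtain ⟨a, ha, b, hb, hab⟩ := Finset.one_lt_card.1 h2le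
    exact ⟨a, b, hab, Equiv.Perm.notMem_support.1 (Finset.mem_compl.1 ha),
      Equiv.Perm.notMem_support.1 (Finset.mem_compl.1 hb)⟩
  obtain ⟨j, k, ej, ek⟩ := exists_move a b hab
  set ν : S11 := m ^ (k : ℕ) * s ^ (j : ℕ) with hν
  have hνa : ν a = 0 := by
    rw [hν, Equiv.Perm.mul_apply, s_pow_apply, m_pow_apply, Fin.cast_val_eq_self, ej, mul_zero]
  have hνb : ν b = 1 := by
    rw [hν, Equiv.Perm.mul_apply, s_pow_apply, m_pow_apply, Fin.cast_val_eq_self, ek]
  set x' := ν * x * ν⁻¹ with hx'
  have hf : ∀ u v : Fin 11, x u = u → ν u = v → x' v = v := fun u v hu huv => by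
    subst huv
    simp [hx', hu]
  have h2' : x' * x' = 1 := by
    rw [hx', show ν * x * ν⁻¹ * (ν * x * ν⁻¹) = ν * (x * x) * ν⁻¹ by group, h2]; group
  have hne' : x' ≠ 1 := fun h => hne (conj_eq_one_iff.1 h)
  have hmap : (Subgroup.closure ({s, x} : Set S11)).map (MulAut.conj ν).toMonoidHom =
      Subgroup.closure {s, x'} := by
    rw [MonoidHom.map_closure, Set.image_insert_eq, Set.image_singleton]
    obtain ⟨r, hr, hr'⟩ : ∃ r : ℕ, ν * s * ν⁻¹ = s ^ r ∧ s ∈ Subgroup.zpowers (s ^ r) := by
      refine ⟨2 ^ (k : ℕ), ?_, ?_⟩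
      · have hk2 : ∀ k : Fin 10, m ^ (k : ℕ) * s * (m ^ (k : ℕ))⁻¹ = s ^ 2 ^ (k : ℕ) := by decide +kernel
        rw [← hk2 k, hν, mul_inv_rev]
        simp only [mul_assoc]
        rw [← mul_assoc (s ^ (j : ℕ)) s, ← pow_succ, pow_succ', mul_assoc, mul_inv_cancel_left]
      · have hk3 : ∀ k : Fin 10, ∃ t : Fin 11, (s ^ 2 ^ (k : ℕ)) ^ (t : ℕ) = s := by decide +kernel
        obtain ⟨t, ht⟩ := hk3 k
        have hz := Subgroup.npow_mem_zpowers (s ^ 2 ^ (k : ℕ)) (t : ℕ)
        rw [ht] at hz
        exact hz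
    rw [show (MulAut.conj ν).toMonoidHom s = s ^ r from hr,
      show (MulAut.conj ν).toMonoidHom x = x' from rfl]
    refine le_antisymm (by
      rw [Subgroup.closure_le]
      rintro z (rfl | rfl)
      · exact pow_mem (s_cl _) r
      · exact x_cl _)
      (closure_le_iff.2 ⟨?_, Subgroup.subset_closure (Set.mem_insert_of_mem (s ^ r) (Set.mem_singleton x'))⟩)
    exact (Subgroup.zpowers_le.2 (Subgroup.subset_closure (Set.mem_insert (s ^ r) {x'}))) hr'
  have hsign' : Equiv.Perm.sign x' = 1 := by simp [hx', hsign]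
  rcases normalised h2' (hf a 0 ha hνa) (hf b 1 hb hνb) hne' hsign' with ⟨t, ht, h3⟩ | ⟨b', i', he⟩
  · rw [← hmap] at ht
    obtain ⟨u, hu, rfl⟩ := ht
    refine Or.inl ⟨u, hu, ?_⟩
    rw [Equiv.Perm.IsThreeCycle] at h3 ⊢
    rwa [show (MulAut.conj ν).toMonoidHom u = ν * u * ν⁻¹ from rfl, Equiv.Perm.cycleType_conj] at h3
  · right
    obtain ⟨i'', hi''⟩ := map_affine b' i' (10 - (k : ℕ)) (11 - (j : ℕ))
    refine ⟨b', i'', ?_⟩
    have hinv : s ^ (11 - (j : ℕ)) * m ^ (10 - (k : ℕ)) = ν⁻¹ := by
      rw [eq_inv_iff_mul_eq_one, hν, mul_assoc, ← mul_assoc (m ^ (10 - (k : ℕ))), ← pow_add,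
        show 10 - (k : ℕ) + (k : ℕ) = 10 by omega, show m ^ 10 = (1 : S11) by decide +kernel, one_mul,
        ← pow_add, show 11 - (j : ℕ) + (j : ℕ) = 11 by omega]
      decide +kernel
    rw [hinv, ← he, ← hmap, Subgroup.map_map] at hi''
    rw [← hi'']
    ext y
    simp [mul_assoc]

end Cfsg.Agent.DegEleven
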