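import Mathlib
import Cfsg.Agent.Lib.Perm.PrimeDegree
import Cfsg.Agent.Lib.Perm.Primitive
import Cfsg.Agent.Lib.Lead.DegreeEleven.Groups

/-!
# Non-soluble groups of degree eleven
-/

set_option autoImplicit false
set_option maxRecDepth 100000

namespace Cfsg.Agent.DegEleven

open Equiv
open scoped Fin.NatCast

attribute [local irreducible] s g

theorem s_order : orderOf s = 11 := by
  haveI : Fact (Nat.Prime 11) := ⟨by norm_num⟩
  exact orderOf_eq_prime (by decide +kernel) (by decide +kernel)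

theorem s_sign : Equiv.Perm.sign s = 1 := by decide +kernel

theorem transitive_of_mem {H : Subgroup S11} (hs : s ∈ H) : MulAction.IsPretransitive H (Fin 11) :=
  ⟨fun a b => ⟨⟨s ^ ((b - a : Fin 11) : ℕ), pow_mem hs _⟩, by
    show (s ^ ((b - a : Fin 11) : ℕ)) a = b
    rw [s_pow_apply, Fin.cast_val_eq_self, add_sub_cancel]⟩⟩

/-- An element of order eleven is conjugate to a generator of the standard cyclic group. -/
theorem exists_conj {H : Subgroup S11} (hs : s ∈ H) {y : S11} (hy : y ∈ H) (hyo : orderOf y = 11) :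
    ∃ γ ∈ H, s ∈ Subgroup.zpowers (γ * y * γ⁻¹) := by
  classical
  haveI : Fact (Nat.Prime 11) := ⟨by norm_num⟩
  have hfac : (Nat.card H).factorization 11 = 1 := by
    have h1 : (11 : ℕ) ∣ Nat.card H := by
      have h0 := orderOf_dvd_natCard (⟨s, hs⟩ : H)
      rwa [Subgroup.orderOf_mk, s_order] at h0
    have h2 : ¬ 11 ^ 2 ∣ Nat.card H := fun h => by
      have h3 := h.trans (Subgroup.card_subgroup_dvd_card H)
      rw [Nat.card_perm, Nat.card_fin] at h3
      revert h3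
      decide +kernel
    have := (Nat.Prime.dvd_iff_one_le_factorization (by norm_num : Nat.Prime 11) Nat.card_pos.ne').1 h1
    by_contra hne
    exact h2 ((Nat.Prime.pow_dvd_iff_le_factorization (by norm_num : Nat.Prime 11) Nat.card_pos.ne').2 (by omega))
  have hc : ∀ z : H, orderOf (z : S11) = 11 →
      Nat.card (Subgroup.zpowers z) = 11 ^ (Nat.card H).factorization 11 := fun z hz => by
    rw [Nat.card_zpowers, hfac, pow_one, ← Subgroup.orderOf_coe, hz]
  let P : Sylow 11 H := Sylow.ofCard (Subgroup.zpowers ⟨y, hy⟩) (hc ⟨y, hy⟩ hyo)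
  let Q : Sylow 11 H := Sylow.ofCard (Subgroup.zpowers ⟨s, hs⟩) (hc ⟨s, hs⟩ s_order)
  obtain ⟨γ, hγ⟩ := MulAction.exists_smul_eq H P Q
  refine ⟨γ, γ.2, ?_⟩
  have hmem : (⟨s, hs⟩ : H) ∈ (Q : Subgroup H) := Subgroup.mem_zpowers _
  rw [← hγ, Sylow.coe_subgroup_smul, Subgroup.mem_pointwise_smul_iff_inv_smul_mem] at hmem
  obtain ⟨t, ht⟩ := Subgroup.mem_zpowers_iff.1 hmem
  refine Subgroup.mem_zpowers_iff.2 ⟨t, ?_⟩
  have h : y ^ t = (γ : S11)⁻¹ * s * γ := by
    have := congrArg Subtype.val ht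
    simpa [MulAut.smul_def] using this
  rw [conj_zpow, h]
  group

theorem exists_log : ∀ a : Fin 11, a ≠ 0 → ∃ k : Fin 10, (2 : Fin 11) ^ (k : ℕ) = a := by decide +kernel

/-- The affine maps normalise the standard cyclic group, and nothing else does. -/
theorem normaliser_affine {ν : S11} (h : s ∈ Subgroup.zpowers (ν * s * ν⁻¹)) :
    ∃ c k : ℕ, ν = s ^ c * m ^ k := by
  have hz : ν * s * ν⁻¹ ∈ Subgroup.zpowers s := by
    have he : Subgroup.zpowers s = Subgroup.zpowers (ν * s * ν⁻¹) :=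
      Subgroup.eq_of_le_of_card_ge (Subgroup.zpowers_le.2 h) (by
        rw [Nat.card_zpowers, Nat.card_zpowers]
        exact (orderOf_injective (MulAut.conj ν).toMonoidHom (MulAut.conj ν).injective s).le)
    rw [he]; exact Subgroup.mem_zpowers _
  obtain ⟨a, ha⟩ := mem_powers_iff_mem_zpowers.2 hz
  simp only at ha
  have hval : ∀ i : Fin 11, ν i = ν 0 + (a : Fin 11) * i := fun i => by
    have e : ν * s ^ i.val = s ^ (a * i.val) * ν := by
      rw [pow_mul, ha, conj_pow]; group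
    have := congrArg (fun f : S11 => f 0) e
    have hcast : ((a * i.val : ℕ) : Fin 11) = (a : Fin 11) * i := Fin.ext (by
      rw [Fin.val_natCast, Fin.val_mul, Fin.val_natCast, Nat.mod_mul_mod])
    simp only [Equiv.Perm.mul_apply, s_pow_apply, zero_add, Fin.cast_val_eq_self, hcast] at this
    exact this
  have ha0 : (a : Fin 11) ≠ 0 := fun h0 => by
    have := ν.injective ((hval 1).trans (by rw [h0, zero_mul, add_zero]) : ν 1 = ν 0)
    exact absurd this (by decide)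
  obtain ⟨k, hk⟩ := exists_log _ ha0
  refine ⟨(ν 0).val, k, Equiv.ext fun i => ?_⟩
  rw [Equiv.Perm.mul_apply, m_pow_apply, s_pow_apply, hk, Fin.cast_val_eq_self, hval, add_comm]

/-- The groups of degree eleven without three-cycles. -/
theorem classification (G : Subgroup S11) (hs : s ∈ G) (hns : ¬ Group.IsSolvable G)
    (h3 : ∀ t ∈ G, ¬ t.IsThreeCycle) : ∃ b i, G = K b i := by
  classical
  haveI : Fact (Nat.Prime 11) := ⟨by norm_num⟩
  haveI := transitive_of_mem hs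
  -- the even part
  set G₀ := G ⊓ alternatingGroup (Fin 11) with hG₀
  have hs₀ : s ∈ G₀ := ⟨hs, Equiv.Perm.mem_alternatingGroup.2 s_sign⟩
  have hns₀ : ¬ Group.IsSolvable G₀ := fun hsol => hns (by
    haveI := hsol
    refine Group.isSolvable_of_ker_le_range (Subgroup.inclusion (inf_le_left : G₀ ≤ G))
      (Equiv.Perm.sign.comp G.subtype) fun x hx => ⟨⟨x, x.2, ?_⟩, rfl⟩
    exact Equiv.Perm.mem_alternatingGroup.2 hx)
  haveI := transitive_of_mem hs₀
  obtain ⟨x₁, hx₁, hx₁2, hx₁ne⟩ : ∃ x ∈ G₀, x * x = 1 ∧ x ≠ 1 := by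
    rcases Cfsg.Agent.Perm.burnside_prime_degree (Fintype.card_fin 11) G₀ with h | h
    · exact absurd h hns₀
    obtain ⟨γ, e0, e1⟩ := (MulAction.is_two_pretransitive_iff (G := G₀) (α := Fin 11)).1 h
      (show (0 : Fin 11) ≠ 1 by decide) (show (1 : Fin 11) ≠ 0 by decide)
    have heven : Even (orderOf γ) := by
      by_contra hodd
      obtain ⟨j, hj⟩ := Nat.not_even_iff_odd.1 hodd
      have hfix : ∀ j : ℕ, γ ^ (2 * j) • (0 : Fin 11) = 0 := fun j => by
        induction j with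
        | zero => simp
        | succ j ih => rw [show 2 * (j + 1) = 2 * j + 2 by ring, pow_add, mul_smul, pow_two, mul_smul, e0, e1, ih]
      have := congrArg (fun f : G₀ => f • (0 : Fin 11)) (pow_orderOf_eq_one γ)
      simp only [hj, pow_succ', mul_smul, hfix, e0, one_smul] at this
      exact absurd this (by decide)
    obtain ⟨j, hj⟩ := heven
    have hpos := orderOf_pos γ
    refine ⟨((γ ^ j : G₀) : S11), (γ ^ j).2, ?_, fun h1 => ?_⟩
    · rw [← Subgroup.coe_mul, ← pow_add, ← hj, pow_orderOf_eq_one, Subgroup.coe_one]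
    · exact absurd (Nat.le_of_dvd (by omega) (orderOf_dvd_of_pow_eq_one (x := γ) (n := j) (Subtype.ext h1)))
        (by omega)
  let I : Set S11 := {y | y ∈ G₀ ∧ y * y = 1 ∧ y ≠ 1}
  have hI : ∀ y ∈ I, ∃ b i, Subgroup.closure ({s, y} : Set S11) = K b i ∧ K b i ≤ G := by
    rintro y ⟨hy, hy2, hy1⟩
    rcases classify hy2 hy1 (Equiv.Perm.mem_alternatingGroup.1 hy.2) with ⟨t, ht, h⟩ | ⟨b, i, h⟩
    · exact absurd h (h3 t (closure_le_iff.2 ⟨hs, hy.1⟩ ht))
    · exact ⟨b, i, h, h ▸ closure_le_iff.2 ⟨hs, hy.1⟩⟩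
  obtain ⟨b₁, i, h₁, h₁G⟩ := hI x₁ ⟨hx₁, hx₁2, hx₁ne⟩
  have hside : ∀ b' i', K b' i' ≤ G → i' = i := fun b' i' hle => by
    by_contra hne
    obtain ⟨t, ht, h⟩ : ∃ t ∈ G, t.IsThreeCycle := by
      cases i <;> cases i'
      · exact absurd rfl hne
      · exact mix ((small_le _ _).trans h₁G) ((small_le _ _).trans hle)
      · exact mix ((small_le _ _).trans hle) ((small_le _ _).trans h₁G)
      · exact absurd rfl hne
    exact h3 t ht h
  obtain ⟨b, x₀, hx₀, h₀, hmax⟩ : ∃ b, ∃ x₀ ∈ I, Subgroup.closure ({s, x₀} : Set S11) = K b i ∧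
      ∀ y ∈ I, ∀ b', Subgroup.closure ({s, y} : Set S11) = K b' i → K b' i ≤ K b i := by
    by_cases h : ∃ y ∈ I, Subgroup.closure ({s, y} : Set S11) = K true i
    · obtain ⟨y, hy, he⟩ := h
      exact ⟨true, y, hy, he, fun z _ b' _ => by cases b' <;> [exact small_le _ _; exact le_rfl]⟩
    · push Not at h
      have hb : b₁ = false := by
        cases b₁
        · rfl
        · exact absurd h₁ (h x₁ ⟨hx₁, hx₁2, hx₁ne⟩)
      subst hb
      refine ⟨false, x₁, ⟨hx₁, hx₁2, hx₁ne⟩, h₁, fun z hz b' hb' => ?_⟩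
      cases b'
      · exact le_rfl
      · exact absurd hb' (h z hz)
  have hKG : K b i ≤ G := h₀ ▸ closure_le_iff.2 ⟨hs, hx₀.1.1⟩
  set J := Subgroup.closure I with hJ
  have hJK : J ≤ K b i := (Subgroup.closure_le _).2 fun y hy => by
    obtain ⟨b', i', hb', hle⟩ := hI y hy
    rw [hside b' i' hle] at hb'
    have hy' : y ∈ Subgroup.closure ({s, y} : Set S11) := x_cl y
    rw [hb'] at hy'
    exact hmax y hy b' hb' hy'
  have hJG : J ≤ G := hJK.trans hKG
  have hnorm : ∀ γ ∈ G, ∀ y ∈ J, γ * y * γ⁻¹ ∈ J := fun γ hγ y hy => by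
    have hle : J.map (MulAut.conj γ).toMonoidHom ≤ J := by
      rw [hJ, MonoidHom.map_closure, Subgroup.closure_le]
      rintro _ ⟨z, ⟨hz, hz2, hz1⟩, rfl⟩
      have hzG : γ * z * γ⁻¹ ∈ G := mul_mem (mul_mem hγ (Subgroup.mem_inf.1 hz).1) (inv_mem hγ)
      refine Subgroup.subset_closure ⟨Subgroup.mem_inf.2 ⟨hzG, Equiv.Perm.mem_alternatingGroup.2 ?_⟩, ?_, ?_⟩
      · show Equiv.Perm.sign (γ * z * γ⁻¹) = 1
        simp [Equiv.Perm.mem_alternatingGroup.1 (Subgroup.mem_inf.1 hz).2]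
      · show γ * z * γ⁻¹ * (γ * z * γ⁻¹) = 1
        rw [show γ * z * γ⁻¹ * (γ * z * γ⁻¹) = γ * (z * z) * γ⁻¹ by group, hz2]; group
      · exact fun h => hz1 (conj_eq_one_iff.1 h)
    exact hle (Subgroup.mem_map_of_mem _ hy)
  haveI hJn : (J.subgroupOf G).Normal := ⟨fun y hy γ => hnorm γ γ.2 y hy⟩
  have hx₀J : x₀ ∈ J := Subgroup.subset_closure hx₀
  haveI : MulAction.IsPreprimitive G (Fin 11) :=
    MulAction.IsPreprimitive.of_prime_card (by rw [Nat.card_fin]; norm_num)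
  have hne : J.subgroupOf G ≠ ⊥ := fun h => hx₀.2.2 (by
    have : (⟨x₀, hx₀.1.1⟩ : G) ∈ J.subgroupOf G := hx₀J
    rw [h, Subgroup.mem_bot] at this
    exact congrArg Subtype.val this)
  haveI : MulAction.IsPretransitive (J.subgroupOf G) (Fin 11) :=
    Cfsg.Agent.Perm.normal_isPretransitive _ hne
  have h11 : 11 ∣ Nat.card (J.subgroupOf G) := by
    have h := (MulAction.stabilizer (J.subgroupOf G) (0 : Fin 11)).index_dvd_card
    rwa [MulAction.index_stabilizer_of_transitive, Nat.card_fin] at h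
  obtain ⟨y, hy⟩ := exists_prime_orderOf_dvd_card' 11 h11
  have hyJ : ((y : G) : S11) ∈ J := y.2
  obtain ⟨γ, hγ, hsγ⟩ := exists_conj hs ((y : G).2) (by rwa [Subgroup.orderOf_coe, Subgroup.orderOf_coe])
  have hsJ : s ∈ J := Subgroup.zpowers_le.2 (hnorm γ hγ _ hyJ) hsγ
  have hKJ : K b i = J := le_antisymm (h₀ ▸ closure_le_iff.2 ⟨hsJ, hx₀J⟩) hJK
  refine ⟨b, i, le_antisymm (fun δ hδ => ?_) hKG⟩
  obtain ⟨k₁, hk₁, hk₁s⟩ := exists_conj (s_mem b i) (hKJ ▸ hnorm δ hδ s hsJ)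
    ((orderOf_injective (MulAut.conj δ).toMonoidHom (MulAut.conj δ).injective s).trans s_order)
  have hk₁s : s ∈ Subgroup.zpowers (k₁ * δ * s * (k₁ * δ)⁻¹) := by
    rw [show k₁ * δ * s * (k₁ * δ)⁻¹ = k₁ * (δ * s * δ⁻¹) * k₁⁻¹ by group]; exact hk₁s
  obtain ⟨c, k, hck⟩ := normaliser_affine hk₁s
  have hmk : m ^ k ∈ K b i → δ ∈ K b i := fun h => by
    have : k₁ * δ ∈ K b i := hck ▸ mul_mem (pow_mem (s_mem b i) c) h
    have := mul_mem (inv_mem hk₁) this
    rwa [inv_mul_cancel_left] at this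
  rcases Nat.even_or_odd' k with ⟨j, rfl | rfl⟩
  · exact hmk (by rw [pow_mul, pow_two]; exact pow_mem (four_mem b i) j)
  · exfalso
    have h2j : m ^ (2 * j) ∈ G := hKG (by rw [pow_mul, pow_two]; exact pow_mem (four_mem b i) j)
    have hm2j : s ^ c * m ^ (2 * j + 1) ∈ G := hck ▸ mul_mem (hKG hk₁) hδ
    have hmG : m ∈ G := by
      have := mul_mem (inv_mem h2j) (mul_mem (inv_mem (pow_mem hs c)) hm2j)
      rwa [inv_mul_cancel_left, pow_succ, inv_mul_cancel_left] at this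
    have hle : K b (!i) ≤ G := by
      rw [← map_m]
      rintro _ ⟨z, hz, rfl⟩
      exact mul_mem (mul_mem hmG (hKG hz)) (inv_mem hmG)
    have := hside b (!i) hle
    cases i <;> simp at this

end Cfsg.Agent.DegEleven
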