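import Mathlib
import Cfsg.Agent.Lib.Lead.DegreeEleven.Groups
import Cfsg.Prelude.Def_Sporadic_a

/-!
# The Steiner systems and biplanes, as lists of truth values
-/

set_option autoImplicit false
set_option maxRecDepth 100000

namespace Cfsg.Agent.DegEleven

open Equiv
open scoped Fin.NatCast

/-- the indicator list of a set. -/
def enc (b : Finset (Fin 11)) : List Bool := List.ofFn fun i => decide (i ∈ b)

theorem enc_inj : Function.Injective enc := fun a b h =>
  Finset.ext fun i => decide_eq_decide.1 (congrFun (List.ofFn_injective h) i)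

theorem enc_getD (b : Finset (Fin 11)) (i : Fin 11) : (enc b).getD i.val false = decide (i ∈ b) := by
  have h : i.val < (enc b).length := by simp [enc]
  rw [List.getD_eq_getElem _ _ h]
  simp only [enc, List.getElem_ofFn]

def bits (n : ℕ) : List Bool := (List.range 11).map n.testBit

def blockBits (i : Bool) : List (List Bool) := (steiner.getD (cond i 1 0) []).map bits

def planeBits (i : Bool) : List (List Bool) := (biplane.getD (cond i 1 0) []).map bits

/-- The Steiner system. -/
def steinerSet (i : Bool) : Set (Finset (Fin 11)) := {b | enc b ∈ blockBits i}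

/-- The biplane. -/
def planeSet (i : Bool) : Set (Finset (Fin 11)) := {b | enc b ∈ planeBits i}

def ones : List Bool → ℕ
  | [] => 0
  | true :: l => ones l + 1
  | false :: l => ones l

def subB : List Bool → List Bool → Bool
  | [], _ => true
  | a :: l, [] => !a && subB l []
  | a :: l, b :: l' => (!a || b) && subB l l'

def cube : ℕ → List (List Bool)
  | 0 => [[]]
  | n + 1 => (cube n).map (List.cons false) ++ (cube n).map (List.cons true)

theorem mem_cube : ∀ l : List Bool, l ∈ cube l.length
  | [] => List.mem_singleton.2 rfl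
  | false :: l => List.mem_append_left _ (List.mem_map_of_mem (mem_cube l))
  | true :: l => List.mem_append_right _ (List.mem_map_of_mem (mem_cube l))

theorem ones_ofFn : ∀ {n : ℕ} (f : Fin n → Bool),
    ones (List.ofFn f) = (Finset.univ.filter fun i => f i = true).card
  | 0, f => by simp [ones]
  | n + 1, f => by
      rw [List.ofFn_succ, Fin.card_filter_univ_succ']
      cases hf : f 0
      · rw [ones, ones_ofFn (fun i : Fin n => f i.succ)]
        simp [Function.comp_def]
      · rw [ones, ones_ofFn (fun i : Fin n => f i.succ)]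
        simp [Function.comp_def, add_comm]

theorem ones_enc (b : Finset (Fin 11)) : ones (enc b) = b.card := by
  rw [enc, ones_ofFn]
  congr 1
  ext i
  simp

theorem subB_ofFn : ∀ {n : ℕ} (f g : Fin n → Bool),
    subB (List.ofFn f) (List.ofFn g) = true ↔ ∀ i, f i = true → g i = true
  | 0, f, g => by simp [subB]
  | n + 1, f, g => by
      rw [List.ofFn_succ, List.ofFn_succ, subB, Bool.and_eq_true, subB_ofFn (fun i : Fin n => f i.succ),
        Fin.forall_fin_succ]
      cases f 0 <;> simp

theorem subB_enc (t b : Finset (Fin 11)) : subB (enc t) (enc b) = true ↔ t ⊆ b := by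
  rw [enc, enc, subB_ofFn]
  simp [Finset.subset_iff]

theorem blocks_ones : ∀ i, (blockBits i).all (fun l => Nat.beq (ones l) 5 && Nat.beq l.length 11) = true := by
  decide +kernel

theorem blocks_unique : ∀ i, (cube 11).all (fun t => !Nat.beq (ones t) 4 ||
    Nat.beq ((blockBits i).filter (subB t)).length 1) = true := by
  decide +kernel

theorem isSteiner (i : Bool) : Cfsg.IsSteinerSystem 4 5 (steinerSet i) := by
  refine ⟨fun b hb => ?_, fun t ht => ?_⟩
  · have h := List.all_eq_true.1 (blocks_ones i) _ hb
    rw [Bool.and_eq_true] at h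
    rw [← ones_enc]
    exact Nat.eq_of_beq_eq_true h.1
  · have hlen : (enc t).length = 11 := by simp [enc]
    have h := List.all_eq_true.1 (blocks_unique i) (enc t) (hlen ▸ mem_cube (enc t))
    have h4 : Nat.beq (ones (enc t)) 4 = true := by rw [ones_enc, ht]; rfl
    rw [h4, Bool.not_true, Bool.false_or] at h
    obtain ⟨l, hl⟩ := List.length_eq_one_iff.1 (Nat.eq_of_beq_eq_true h)
    have hmem : l ∈ blockBits i ∧ subB (enc t) l = true := by
      have : l ∈ (blockBits i).filter (subB (enc t)) := hl ▸ List.mem_singleton.2 rfl
      exact List.mem_filter.1 this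
    have hll : l.length = 11 := by
      have h := List.all_eq_true.1 (blocks_ones i) _ hmem.1
      rw [Bool.and_eq_true] at h
      exact Nat.eq_of_beq_eq_true h.2
    let b : Finset (Fin 11) := Finset.univ.filter fun j => l.getD j.val false = true
    have hb : enc b = l := by
      refine List.ext_getElem (by simp [enc, hll]) fun j h1 h2 => ?_
      simp only [enc, b, List.getElem_ofFn, Finset.mem_filter, Finset.mem_univ, true_and, Bool.decide_eq_true]
      exact List.getD_eq_getElem _ _ h2
    refine ⟨b, ⟨show enc b ∈ _ from hb ▸ hmem.1, (subB_enc t b).1 (hb ▸ hmem.2)⟩, fun c hc => enc_inj ?_⟩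
    have : enc c ∈ (blockBits i).filter (subB (enc t)) := List.mem_filter.2 ⟨hc.1, (subB_enc t c).2 hc.2⟩
    rw [hl, List.mem_singleton] at this
    rw [this, hb]

/-- the image of an indicator list. -/
def moveB (p : List ℕ) (l : List Bool) : List Bool := p.map fun i => l.getD i false

theorem enc_image (σ : S11) (b : Finset (Fin 11)) : enc (b.image σ) = moveB (code σ⁻¹) (enc b) := by
  rw [moveB, code, List.map_ofFn]
  refine congrArg List.ofFn (funext fun j => ?_)
  simp only [Function.comp_apply, enc_getD]
  refine decide_eq_decide.2 ⟨fun h => ?_, fun h => ?_⟩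
  · obtain ⟨a, ha, rfl⟩ := Finset.mem_image.1 h
    simpa using ha
  · exact Finset.mem_image.2 ⟨σ⁻¹ j, h, by simp⟩

theorem s_inv : code s⁻¹ = rot 10 := by decide +kernel

theorem g_inv : ∀ b i, code (g b i)⁻¹ = gens.getD (idx b i) [] := by decide +kernel

theorem blocks_closed : ∀ i, (blockBits i).all (fun l => (blockBits i).contains (moveB (rot 10) l) &&
    (blockBits i).contains (moveB (gens.getD (idx false i) []) l) &&
    (blockBits i).contains (moveB (gens.getD (idx true i) []) l)) = true := by
  decide +kernel

theorem planes_closed : ∀ i, (planeBits i).all (fun l => (planeBits i).contains (moveB (rot 10) l) &&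
    (planeBits i).contains (moveB (gens.getD (idx false i) []) l)) = true := by
  decide +kernel

theorem planes_broken : ∀ i, (planeBits i).any (fun l => Nat.beq l.length 11 &&
    !(planeBits i).contains (moveB (gens.getD (idx true i) []) l)) = true := by
  decide +kernel

theorem blocks_stable (i : Bool) : (∀ x ∈ steinerSet i, x.image s ∈ steinerSet i) ∧
    ∀ b, ∀ x ∈ steinerSet i, x.image (g b i) ∈ steinerSet i := by
  have h := fun (x : Finset (Fin 11)) (hx : x ∈ steinerSet i) => List.all_eq_true.1 (blocks_closed i) _ hx
  simp only [Bool.and_eq_true, List.contains_iff_mem] at h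
  refine ⟨fun x hx => ?_, fun b x hx => ?_⟩
  · show enc (x.image s) ∈ blockBits i
    rw [enc_image, s_inv]
    exact (h x hx).1.1
  · show enc (x.image (g b i)) ∈ blockBits i
    rw [enc_image, g_inv]
    cases b
    · exact (h x hx).1.2
    · exact (h x hx).2

theorem planes_stable (i : Bool) : (∀ x ∈ planeSet i, x.image s ∈ planeSet i) ∧
    ∀ x ∈ planeSet i, x.image (g false i) ∈ planeSet i := by
  have h := fun (x : Finset (Fin 11)) (hx : x ∈ planeSet i) => List.all_eq_true.1 (planes_closed i) _ hx
  simp only [Bool.and_eq_true, List.contains_iff_mem] at h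
  refine ⟨fun x hx => ?_, fun x hx => ?_⟩
  · show enc (x.image s) ∈ planeBits i
    rw [enc_image, s_inv]
    exact (h x hx).1
  · show enc (x.image (g false i)) ∈ planeBits i
    rw [enc_image, g_inv]
    exact (h x hx).2

theorem planes_unstable (i : Bool) : ∃ x ∈ planeSet i, x.image (g true i) ∉ planeSet i := by
  obtain ⟨l, hl, h⟩ := List.any_eq_true.1 (planes_broken i)
  rw [Bool.and_eq_true, Bool.not_eq_true'] at h
  obtain ⟨hlen, hn⟩ := h
  have hlen := Nat.eq_of_beq_eq_true hlen
  let b : Finset (Fin 11) := Finset.univ.filter fun j => l.getD j.val false = true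
  have hb : enc b = l := by
    refine List.ext_getElem (by simp [enc, hlen]) fun j h1 h2 => ?_
    simp only [enc, b, List.getElem_ofFn, Finset.mem_filter, Finset.mem_univ, true_and, Bool.decide_eq_true]
    exact List.getD_eq_getElem _ _ h2
  refine ⟨b, show enc b ∈ _ from hb ▸ hl, fun hc => ?_⟩
  have hc' : enc (b.image (g true i)) ∈ planeBits i := hc
  rw [enc_image, g_inv, hb, ← List.contains_iff_mem, hn] at hc'
  exact absurd hc' (by simp)

end Cfsg.Agent.DegEleven
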