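import Mathlib
import Cfsg.Agent.S0426
import Cfsg.Agent.S0498
import Cfsg.Agent.Lib.Spor.SteinerUnique
import Cfsg.Agent.Lib.Lead.DegreeEleven.Main
import Cfsg.Agent.Lib.Lead.DegreeEleven.Systems

/-!
# The two groups of degree eleven
-/

set_option autoImplicit false
set_option maxRecDepth 100000

namespace Cfsg.Agent.DegEleven

open Equiv
open scoped Fin.NatCast Pointwise

theorem g_word : ∀ i, g false i =
    s ^ (cond i 2 1 : ℕ) * (g false i * s * (g false i)⁻¹) ^ (cond i 2 1 : ℕ) * s ^ (cond i 2 1 : ℕ) := by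
  decide +kernel

theorem g_fix : ∀ i, g false i 0 = 0 ∧ g false i ≠ 1 ∧ ∃ a : Fin 11, a ≠ 0 ∧ g false i a = a := by decide +kernel

theorem big_eq (i : Bool) : K true i = Cfsg.setSystemAut (steinerSet i) := by
  obtain ⟨⟨hsimp, hcard⟩, -, hsharp⟩ := Cfsg.Agent.S0426.result (Fintype.card_fin 11) (isSteiner i)
  set H := Cfsg.setSystemAut (steinerSet i) with hH
  have hle : ∀ b, K b i ≤ H := fun b => closure_le_iff.2
    ⟨Spor.Code24.mem_setSystemAut (blocks_stable i).1, Spor.Code24.mem_setSystemAut ((blocks_stable i).2 b)⟩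
  have hns : ¬ Group.IsSolvable H := fun hsol => by
    haveI := hsimp
    haveI := hsol
    have hc : ∀ a b : H, a * b = b * a := IsSimpleGroup.comm_iff_isSolvable.2 inferInstance
    letI : CommGroup H := { (inferInstance : Group H) with mul_comm := hc }
    have := IsSimpleGroup.prime_card (α := H)
    rw [hcard] at this
    exact absurd this (by norm_num)
  have h3 : ∀ t ∈ H, ¬ t.IsThreeCycle := fun t ht h => by
    classical
    have hc : 4 ≤ t.supportᶜ.card := by
      rw [Finset.card_compl, h.card_support, Fintype.card_fin]; norm_num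
    obtain ⟨e, he⟩ : ∃ e : Fin 4 ↪ Fin 11, ∀ j, t (e j) = e j := by
      obtain ⟨S, hS, hS4⟩ := Finset.exists_subset_card_eq hc
      refine ⟨(S.orderEmbOfFin hS4).toEmbedding, fun j => Equiv.Perm.notMem_support.1
        (Finset.mem_compl.1 (hS (Finset.orderEmbOfFin_mem S hS4 j)))⟩
    have hmem : (⟨t, ht⟩ : H) ∈ MulAction.stabilizer H e :=
      Function.Embedding.ext fun j => he j
    rw [hsharp e, Subgroup.mem_bot] at hmem
    have ht1 : t = 1 := congrArg Subtype.val hmem
    have := h.card_support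
    rw [ht1, Equiv.Perm.support_one] at this
    simp at this
  obtain ⟨b, i', hbi⟩ := classification H (hle true (s_mem _ _)) hns h3
  have hi : i' = i := by
    by_contra hne
    obtain ⟨t, ht, h⟩ : ∃ t ∈ H, t.IsThreeCycle := by
      have h1 : K false i' ≤ H := (small_le b i').trans hbi.ge
      cases i <;> cases i'
      · exact absurd rfl hne
      · exact mix (hle false) h1
      · exact mix h1 (hle false)
      · exact absurd rfl hne
    exact h3 t ht h
  subst hi
  cases b
  · exfalso
    obtain ⟨x, hx, hnot⟩ := planes_unstable i'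
    have hmem : g true i' ∈ Cfsg.setSystemAut (planeSet i') :=
      (closure_le_iff.2 ⟨Spor.Code24.mem_setSystemAut (planes_stable i').1,
        Spor.Code24.mem_setSystemAut (planes_stable i').2⟩ : K false i' ≤ _)
        (by show g true i' ∈ K false i'; rw [← show H = K false i' from hbi]; exact hle true (g_mem _ _))
    refine hnot (?_ : x.image (g true i') ∈ planeSet i')
    rw [← MulAction.mem_stabilizer_iff.1 hmem]
    exact Set.mem_image_of_mem _ hx
  · exact hbi.symm

theorem big_spec (i : Bool) : Cfsg.IsM11 (K true i) ∧ MulAction.IsMultiplyPretransitive (K true i) (Fin 11) 4 ∧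
    ∀ x : Fin 4 ↪ Fin 11, MulAction.stabilizer (K true i) x = ⊥ := by
  rw [big_eq i]
  exact Cfsg.Agent.S0426.result (Fintype.card_fin 11) (isSteiner i)

theorem big_no_three (i : Bool) : ∀ t ∈ K true i, ¬ t.IsThreeCycle := by
  classical
  intro t ht h
  obtain ⟨-, -, hsharp⟩ := big_spec i
  have hc : 4 ≤ t.supportᶜ.card := by
    rw [Finset.card_compl, h.card_support, Fintype.card_fin]; norm_num
  obtain ⟨S, hS, hS4⟩ := Finset.exists_subset_card_eq hc
  have hmem : (⟨t, ht⟩ : K true i) ∈ MulAction.stabilizer (K true i) (S.orderEmbOfFin hS4).toEmbedding :=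
    Function.Embedding.ext fun j => Equiv.Perm.notMem_support.1
      (Finset.mem_compl.1 (hS (Finset.orderEmbOfFin_mem S hS4 j)))
  rw [hsharp, Subgroup.mem_bot] at hmem
  have := h.card_support
  rw [show t = 1 from congrArg Subtype.val hmem] at this
  simp at this

theorem small_lt (i : Bool) : ¬ K true i ≤ K false i := fun h => by
  obtain ⟨x, hx, hnot⟩ := planes_unstable i
  have hmem : g true i ∈ Cfsg.setSystemAut (planeSet i) :=
    (closure_le_iff.2 ⟨Spor.Code24.mem_setSystemAut (planes_stable i).1,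
      Spor.Code24.mem_setSystemAut (planes_stable i).2⟩ : K false i ≤ _) (h (g_mem _ _))
  refine hnot (?_ : x.image (g true i) ∈ planeSet i)
  rw [← MulAction.mem_stabilizer_iff.1 hmem]
  exact Set.mem_image_of_mem _ hx

theorem m_not_mem (i : Bool) : m ∉ K true i := fun hm => by
  have hle : K true (!i) ≤ K true i := by
    rw [← map_m]
    rintro _ ⟨z, hz, rfl⟩
    exact mul_mem (mul_mem hm hz) (inv_mem hm)
  obtain ⟨t, ht, h⟩ : ∃ t ∈ K true i, t.IsThreeCycle := by
    cases i
    · exact mix (small_le _ _) ((small_le _ _).trans hle)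
    · exact mix ((small_le _ _).trans hle) (small_le _ _)
  exact big_no_three i t ht h

theorem card_small (i : Bool) : Nat.card (K false i) = 660 := by
  classical
  haveI : Fact (Nat.Prime 11) := ⟨by norm_num⟩
  set L := K false i with hL
  let sL : L := ⟨s, s_mem _ _⟩
  have hso : orderOf sL = 11 := by rw [Subgroup.orderOf_mk, s_order]
  set N := Subgroup.normalizer ((Subgroup.zpowers sL : Subgroup L) : Set L) with hN
  -- elements of the normaliser
  have hchar : ∀ ν : L, ν ∈ N → ∃ c : Fin 11, ∃ j : Fin 5, (ν : S11) = s ^ (c : ℕ) * (m * m) ^ (j : ℕ) := by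
    intro ν hν
    have h1 : sL ∈ Subgroup.zpowers (ν * sL * ν⁻¹) := by
      have he : Subgroup.zpowers (ν * sL * ν⁻¹) = Subgroup.zpowers sL :=
        Subgroup.eq_of_le_of_card_ge (Subgroup.zpowers_le.2
          ((Subgroup.mem_normalizer_iff.1 hν sL).1 (Subgroup.mem_zpowers _))) (by
          rw [Nat.card_zpowers, Nat.card_zpowers]
          exact (orderOf_injective (MulAut.conj ν).toMonoidHom (MulAut.conj ν).injective sL).ge)
      rw [he]; exact Subgroup.mem_zpowers _
    obtain ⟨t, ht⟩ := Subgroup.mem_zpowers_iff.1 h1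
    obtain ⟨c, k, hck⟩ := normaliser_affine (ν := (ν : S11))
      (Subgroup.mem_zpowers_iff.2 ⟨t, by simpa using congrArg Subtype.val ht⟩)
    have hnu : (ν : S11) ∈ K true i := small_le true i ν.2
    have hmk : m ^ k ∈ K true i := by
      have := mul_mem (inv_mem (pow_mem (s_mem true i) c)) hnu
      rwa [hck, inv_mul_cancel_left] at this
    rcases Nat.even_or_odd' k with ⟨j, rfl | rfl⟩
    · refine ⟨⟨c % 11, Nat.mod_lt _ (by norm_num)⟩, ⟨j % 5, Nat.mod_lt _ (by norm_num)⟩, ?_⟩
      have h5 : (m * m) ^ 5 = (1 : S11) := by decide +kernel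
      rw [hck, pow_mul, pow_two]
      congr 1
      · have h11 := pow_mod_orderOf s c
        rw [s_order] at h11
        exact h11.symm
      · exact pow_eq_pow_mod j h5
    · exfalso
      refine m_not_mem i ?_
      have h2 : m ^ (2 * j) ∈ K true i := by rw [pow_mul, pow_two]; exact pow_mem (four_mem true i) j
      have := mul_mem (inv_mem h2) hmk
      rwa [pow_succ, inv_mul_cancel_left] at this
  have hle : Nat.card N ≤ 55 := by
    choose c j hcj using fun ν : N => hchar ν.1 ν.2
    have hinj : Function.Injective fun ν : N => (c ν, j ν) := fun a b h => by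
      simp only [Prod.mk.injEq] at h
      exact Subtype.ext (Subtype.ext (by rw [hcj a, hcj b, h.1, h.2]))
    exact (Nat.card_le_card_of_injective _ hinj).trans (by simp)
  have h11 : 11 ∣ Nat.card N := by
    have h := Subgroup.card_dvd_of_le (Subgroup.le_normalizer (H := Subgroup.zpowers sL))
    rwa [Nat.card_zpowers, hso] at h
  have h5 : 5 ∣ Nat.card N := by
    have hq : (⟨m * m, four_mem false i⟩ : L) ∈ N := by
      refine Subgroup.mem_normalizer_iff.2 fun z => ?_
      have hgen : ∀ {u : L} {a : ℕ}, (u : S11) * s * (u : S11)⁻¹ = s ^ a → ∀ z ∈ Subgroup.zpowers sL,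
          u * z * u⁻¹ ∈ Subgroup.zpowers sL := by
        intro u a hu z hz
        obtain ⟨t, rfl⟩ := Subgroup.mem_zpowers_iff.1 hz
        rw [← conj_zpow, show u * sL * u⁻¹ = sL ^ a from Subtype.ext hu]
        exact zpow_mem (pow_mem (Subgroup.mem_zpowers _) a) t
      refine ⟨hgen (a := 4) (by show m * m * s * (m * m)⁻¹ = s ^ 4; decide +kernel) z, fun hz => ?_⟩
      have := hgen (u := (⟨m * m, four_mem false i⟩ : L)⁻¹) (a := 3)
        (by show (m * m)⁻¹ * s * (m * m)⁻¹⁻¹ = s ^ 3; decide +kernel) _ hz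
      simpa [mul_assoc] using this
    have h := orderOf_dvd_natCard (⟨_, hq⟩ : N)
    haveI : Fact (Nat.Prime 5) := ⟨by norm_num⟩
    rwa [Subgroup.orderOf_mk, Subgroup.orderOf_mk,
      orderOf_eq_prime (p := 5) (x := m * m) (by decide +kernel) (by decide +kernel)] at h
  have hN55 : Nat.card N = 55 := by
    have h55 : 55 ∣ Nat.card N := Nat.Coprime.mul_dvd_of_dvd_of_dvd (by norm_num : Nat.Coprime 5 11) h5 h11
    have := Nat.le_of_dvd Nat.card_pos h55
    omega
  have hdvd : Nat.card L ∣ 7920 := by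
    have h := Subgroup.card_dvd_of_le (small_le true i)
    rwa [(big_spec i).1.2] at h
  have hfac : (Nat.card L).factorization 11 = 1 := by
    have h1 : (11 : ℕ) ∣ Nat.card L := by
      have h := orderOf_dvd_natCard sL
      rwa [hso] at h
    have h2 : ¬ 11 ^ 2 ∣ Nat.card L := fun h => absurd (h.trans hdvd) (by norm_num)
    have := (Nat.Prime.dvd_iff_one_le_factorization (by norm_num : Nat.Prime 11) Nat.card_pos.ne').1 h1
    by_contra hne
    exact h2 ((Nat.Prime.pow_dvd_iff_le_factorization (by norm_num : Nat.Prime 11) Nat.card_pos.ne').2 (by omega))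
  let P : Sylow 11 L := Sylow.ofCard (Subgroup.zpowers sL) (by rw [Nat.card_zpowers, hso, hfac, pow_one])
  have hn1 : N.index % 11 = 1 := by
    have h := card_sylow_modEq_one 11 L
    rw [Sylow.card_eq_index_normalizer P] at h
    exact h
  have hmul := N.card_mul_index
  rw [hN55] at hmul
  have hn0 : N.index ≠ 1 := fun h => by
    obtain ⟨c, j, hcj⟩ := hchar ⟨g false i, g_mem _ _⟩ (by rw [Subgroup.index_eq_one.1 h]; exact Subgroup.mem_top _)
    obtain ⟨e0, hne, a, ha, ea⟩ := g_fix i
    have hdec : ∀ c : Fin 11, ∀ j : Fin 5, ∀ a : Fin 11, a ≠ 0 → (s ^ (c : ℕ) * (m * m) ^ (j : ℕ)) 0 = 0 →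
        (s ^ (c : ℕ) * (m * m) ^ (j : ℕ)) a = a → c = 0 ∧ j = 0 := by
      decide +kernel
    obtain ⟨rfl, rfl⟩ := hdec c j a ha ((congrArg (fun f : S11 => f 0) hcj).symm.trans e0) ((congrArg (fun f : S11 => f a) hcj).symm.trans ea)
    exact hne (by simpa using hcj)
  have hn144 : N.index ≠ 144 := fun h => small_lt i (le_of_eq (Subgroup.eq_of_le_of_card_ge (small_le true i) (by
    rw [(big_spec i).1.2, ← hmul, h])).symm)
  have hnd : N.index ∣ 144 := by
    rw [← hmul] at hdvd
    exact Nat.dvd_of_mul_dvd_mul_left (by norm_num : 0 < 55) (hdvd.trans (by norm_num))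
  have hdec : ∀ n ∈ Nat.divisors 144, n % 11 = 1 → n = 1 ∨ n = 12 ∨ n = 144 := by decide
  rcases hdec _ (Nat.mem_divisors.2 ⟨hnd, by norm_num⟩) hn1 with h | h | h
  · exact absurd h hn0
  · rw [← hmul, h]
  · exact absurd h hn144

theorem small_simple (i : Bool) : IsSimpleGroup (K false i) := by
  classical
  haveI : Fact (Nat.Prime 11) := ⟨by norm_num⟩
  haveI : MulAction.IsPretransitive (K false i) (Fin 11) := transitive_of_mem (s_mem _ _)
  haveI : MulAction.IsPreprimitive (K false i) (Fin 11) :=
    MulAction.IsPreprimitive.of_prime_card (by rw [Nat.card_fin]; norm_num)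
  haveI : Nontrivial (K false i) := Finite.one_lt_card_iff_nontrivial.1 (by rw [card_small]; norm_num)
  refine { eq_bot_or_eq_top_of_normal := fun N hN => ?_ }
  by_cases hne : N = ⊥
  · exact Or.inl hne
  refine Or.inr ?_
  haveI := hN
  haveI : MulAction.IsPretransitive N (Fin 11) := Cfsg.Agent.Perm.normal_isPretransitive N hne
  have h11 : 11 ∣ Nat.card N := by
    have h := (MulAction.stabilizer N (0 : Fin 11)).index_dvd_card
    rwa [MulAction.index_stabilizer_of_transitive, Nat.card_fin] at h
  obtain ⟨y, hy⟩ := exists_prime_orderOf_dvd_card' 11 h11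
  obtain ⟨γ, hγ, hsγ⟩ := exists_conj (s_mem false i) ((y : K false i).2)
    (by rwa [Subgroup.orderOf_coe, Subgroup.orderOf_coe])
  have hsN : (⟨s, s_mem _ _⟩ : K false i) ∈ N := by
    obtain ⟨t, ht⟩ := Subgroup.mem_zpowers_iff.1 hsγ
    have hc : (⟨γ, hγ⟩ : K false i) * y * (⟨γ, hγ⟩ : K false i)⁻¹ ∈ N := hN.conj_mem _ y.2 _
    convert zpow_mem hc t using 1
    exact Subtype.ext (by simpa using ht.symm)
  have hgN : (⟨g false i, g_mem _ _⟩ : K false i) ∈ N := by
    have he := g_word i
    convert mul_mem (mul_mem (pow_mem hsN (cond i 2 1)) (pow_mem (hN.conj_mem _ hsN ⟨g false i, g_mem _ _⟩) (cond i 2 1)))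
      (pow_mem hsN (cond i 2 1)) using 1
    exact Subtype.ext (by simpa using he)
  rw [eq_top_iff]
  intro z _
  have : K false i ≤ N.map (K false i).subtype := closure_le_iff.2
    ⟨Subgroup.mem_map_of_mem (K false i).subtype hsN, Subgroup.mem_map_of_mem (K false i).subtype hgN⟩
  obtain ⟨w, hw, hwz⟩ := this z.2
  rwa [Subtype.ext hwz] at hw

theorem small_psl (i : Bool) : Nonempty (K false i ≃* Matrix.ProjectiveSpecialLinearGroup (Fin 2) (ZMod 11)) := by
  haveI := small_simple i
  haveI : Fact (Nat.Prime 11) := ⟨by norm_num⟩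
  exact Cfsg.Agent.S0498.result 11 (Or.inl rfl) (by rw [card_small]; norm_num) (ZMod.card 11)

end Cfsg.Agent.DegEleven
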